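import Cfsg.Agent.Lib.OddConseq.TwoGenCoreEmbedded

/-!
# A Sylow 2-subgroup with no normal elementary abelian subgroup of order eight

The four-groups lying in elementary subgroups of order eight of `S` all have the same closure of the
cores of centralizers, `W U` for the normal four-group `U`; its normalizer contains the elements moving
such a subgroup inside `S`.
-/

set_option autoImplicit false
set_option linter.style.haveILetI false

namespace CfsgLib.DichotomyTwo

open Subgroup CfsgLib.TwoGenCore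

universe u

variable {G : Type u} [Group G] [Finite G]

local notation "θ" => Cfsg.centralizerPPrimeCore 2

/-- An elementary abelian subgroup of `S` of order at least eight. -/
def Big (S : Sylow 2 G) (A : Subgroup G) : Prop :=
  Cfsg.IsElementaryAbelian 2 A ∧ 4 < Nat.card A ∧ A ≤ (S : Subgroup G)

/-- A four-group inside an elementary abelian subgroup of order at least eight of `S`. -/
def GoodFour (S : Sylow 2 G) (V : Subgroup G) : Prop :=
  IsKleinFour V ∧ ∃ A, Big S A ∧ V ≤ A

/-- An involution inside an elementary abelian subgroup of order at least eight of `S`. -/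
def GoodInvol (S : Sylow 2 G) (t : G) : Prop :=
  orderOf t = 2 ∧ ∃ A, Big S A ∧ t ∈ A

/-- The groups left by the connected case of the dichotomy theorem. -/
structure Setting (S : Sylow 2 G) (U : Subgroup G) (z : G) : Prop where
  core : Cfsg.oddCore G = ⊥
  notComp : ¬ Cfsg.IsComponentType G
  big : ∃ A, Big S A
  noNormal : ∀ E : Subgroup G, Big S E → ¬ (S : Subgroup G) ≤ normalizer (E : Set G)
  four : IsKleinFour U
  le : U ≤ (S : Subgroup G)
  normal : (S : Subgroup G) ≤ normalizer (U : Set G)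
  mem : z ∈ U
  invol : orderOf z = 2
  central : ∀ s ∈ (S : Subgroup G), Commute s z

theorem ea_commute {A : Subgroup G} (hA : Cfsg.IsElementaryAbelian 2 A) {a b : G} (ha : a ∈ A) (hb : b ∈ A) :
    Commute a b :=
  CfsgLib.EABasic.comm_of_isElementaryAbelian hA ha hb

/-- An elementary subgroup of order at least four contains a four-group through any given element. -/
theorem exists_four_mem {A : Subgroup G} (hA : Cfsg.IsElementaryAbelian 2 A) (h4 : 2 < Nat.card A) {x : G}
    (hx : x ∈ A) (hx1 : x ≠ 1) : ∃ V : Subgroup G, IsKleinFour V ∧ V ≤ A ∧ x ∈ V := by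
  obtain ⟨y, hy, hy1, hyx⟩ : ∃ y ∈ A, y ≠ 1 ∧ y ≠ x := by
    by_contra hno
    push Not at hno
    have hle : A ≤ zpowers x := fun y hy => by
      by_cases hy1 : y = 1
      · exact hy1 ▸ one_mem _
      · rw [hno y hy hy1]; exact mem_zpowers x
    have := Subgroup.card_le_of_le hle
    rw [Nat.card_zpowers, orderOf_eq_prime (hp := ⟨Nat.prime_two⟩) (hA.2 x hx) hx1] at this
    omega
  refine ⟨Subgroup.closure {x, y}, CfsgLib.Invol.isKleinFour_closure_pair
    (orderOf_eq_prime (hp := ⟨Nat.prime_two⟩) (hA.2 x hx) hx1)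
    (orderOf_eq_prime (hp := ⟨Nat.prime_two⟩) (hA.2 y hy) hy1) hyx.symm (ea_commute hA hx hy),
    (closure_le _).2 (by rintro w (rfl | rfl) <;> assumption), subset_closure (by simp)⟩

/-- A four-group commuting with an elementary subgroup not inside it gives a big subgroup. -/
theorem big_sup {S : Sylow 2 G} {V B : Subgroup G} (hV : IsKleinFour V) (hVS : V ≤ (S : Subgroup G))
    (hB : Cfsg.IsElementaryAbelian 2 B) (hBS : B ≤ (S : Subgroup G))
    (hc : ∀ v ∈ V, ∀ b ∈ B, v * b = b * v) (hne : ¬ B ≤ V) : Big S (V ⊔ B) := by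
  haveI : Fact (Nat.Prime 2) := ⟨Nat.prime_two⟩
  have hS := CfsgLib.EABasic.isElementaryAbelian_sup (four_elem hV) hB hc
  refine ⟨hS, ?_, sup_le hVS hBS⟩
  by_contra hle
  refine hne ?_
  rw [Subgroup.eq_of_le_of_card_ge (le_sup_left : V ≤ V ⊔ B) (by rw [hV.card_four]; omega)]
  exact le_sup_right

theorem Big.map {S : Sylow 2 G} {A : Subgroup G} (hA : Big S A) {g : G}
    (hg : ∀ x ∈ A, g * x * g⁻¹ ∈ (S : Subgroup G)) : Big S (A.map (MulAut.conj g).toMonoidHom) := by
  refine ⟨⟨⟨⟨?_⟩⟩, ?_⟩, ?_, ?_⟩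
  · rintro ⟨_, a, ha, rfl⟩ ⟨_, b, hb, rfl⟩
    refine Subtype.ext ?_
    show MulAut.conj g a * MulAut.conj g b = MulAut.conj g b * MulAut.conj g a
    rw [← map_mul, ← map_mul, (ea_commute hA.1 ha hb).eq]
  · rintro _ ⟨a, ha, rfl⟩
    rw [← map_pow, hA.1.2 a ha, map_one]
  · rw [card_map_of_injective (MulAut.conj g).injective]; exact hA.2.1
  · rintro _ ⟨a, ha, rfl⟩; exact hg a ha

theorem GoodFour.invol {S : Sylow 2 G} {V : Subgroup G} (hV : GoodFour S V) {x : G} (hx : x ∈ V)
    (hx1 : x ≠ 1) : GoodInvol S x := by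
  obtain ⟨hV4, A, hA, hVA⟩ := hV
  exact ⟨four_orderOf hV4 hx hx1, A, hA, hVA hx⟩

theorem GoodInvol.four {S : Sylow 2 G} {t : G} (ht : GoodInvol S t) :
    ∃ V : Subgroup G, GoodFour S V ∧ t ∈ V := by
  obtain ⟨ho, A, hA, htA⟩ := ht
  obtain ⟨V, hV, hVA, htV⟩ := exists_four_mem hA.1 (by have := hA.2.1; omega) htA
    (fun e => by rw [e, orderOf_one] at ho; norm_num at ho)
  exact ⟨V, ⟨hV, A, hA, hVA⟩, htV⟩

/-- The elements of a four-group given by two distinct involutions of it. -/
theorem four_cases {V : Subgroup G} (hV : IsKleinFour V) {a b : G} (ha : a ∈ V) (hb : b ∈ V) (ha1 : a ≠ 1)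
    (hb1 : b ≠ 1) (hab : a ≠ b) {x : G} (hx : x ∈ V) : x = 1 ∨ x = a ∨ x = b ∨ x = a * b := by
  haveI := hV
  by_contra hno
  push Not at hno
  obtain ⟨h1, h2, h3, h4⟩ := hno
  exact h4 (congrArg Subtype.val (IsKleinFour.eq_mul_of_ne_all (G := V) (x := ⟨a, ha⟩) (y := ⟨b, hb⟩)
    (z := ⟨x, hx⟩) (fun e => ha1 (congrArg Subtype.val e)) (fun e => hb1 (congrArg Subtype.val e))
    (fun e => hab (congrArg Subtype.val e)) (fun e => h1 (congrArg Subtype.val e))
    (fun e => h2 (congrArg Subtype.val e)) (fun e => h3 (congrArg Subtype.val e))))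

namespace Setting

variable {S : Sylow 2 G} {U : Subgroup G} {z : G} (c : Setting S U z)

include c

theorem z_ne : z ≠ 1 := fun e => by
  have := c.invol
  rw [e, orderOf_one] at this
  norm_num at this

theorem z_mul : z * z = 1 := by rw [← pow_two, ← c.invol, pow_orderOf_eq_one]

/-- The elements of `S` fix an element of `U` or multiply it by `z`. -/
theorem conj_cases {s u : G} (hs : s ∈ (S : Subgroup G)) (hu : u ∈ U) :
    s * u * s⁻¹ = u ∨ s * u * s⁻¹ = u * z := by
  haveI := c.four
  have h1 : s * u * s⁻¹ ∈ U := (mem_normalizer_iff.1 (c.normal hs) u).1 hu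
  by_cases hu1 : u = 1
  · left; rw [hu1, mul_one, mul_inv_cancel]
  by_cases huz : u = z
  · left; rw [huz, (c.central s hs).eq, mul_inv_cancel_right]
  rcases four_cases c.four hu c.mem hu1 c.z_ne huz h1 with e | e | e | e
  · exact absurd (conj_eq_one_iff.1 e) hu1
  · exact Or.inl e
  · exfalso
    refine huz ?_
    have : s * u * s⁻¹ = s * z * s⁻¹ := by rw [e, (c.central s hs).eq, mul_inv_cancel_right]
    exact mul_left_cancel (mul_right_cancel this)
  · exact Or.inr e

/-- The part of `S` centralizing `U` has index at most two. -/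
theorem mul_mem_centralizer {s t : G} (hs : s ∈ (S : Subgroup G)) (ht : t ∈ (S : Subgroup G))
    (hsU : s ∉ centralizer (U : Set G)) (htU : t ∉ centralizer (U : Set G)) :
    s * t ∈ centralizer (U : Set G) := by
  refine mem_centralizer_iff.2 fun u hu => ?_
  suffices h : (s * t) * u * (s * t)⁻¹ = u from (mul_inv_eq_iff_eq_mul.1 h).symm
  have move : ∀ {x : G}, x ∈ (S : Subgroup G) → x ∉ centralizer (U : Set G) →
      u ∉ zpowers z → x * u * x⁻¹ = u * z := by
    intro x hx hxU huz
    obtain ⟨v, hv, hxv⟩ : ∃ v ∈ U, x * v * x⁻¹ = v * z := by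
      by_contra hno
      push Not at hno
      exact hxU (mem_centralizer_iff.2 fun v hv =>
        (mul_inv_eq_iff_eq_mul.1 ((c.conj_cases hx hv).resolve_right (hno v hv))).symm)
    have hv1 : v ≠ 1 := fun e => c.z_ne (by rw [e, mul_one, mul_inv_cancel, one_mul] at hxv; exact hxv.symm)
    have hvz : v ≠ z := fun e => c.z_ne (by
      rw [e, (c.central x hx).eq, mul_inv_cancel_right, c.z_mul] at hxv; exact hxv)
    rcases four_cases c.four hv c.mem hv1 c.z_ne hvz hu with e | e | e | e
    · exact absurd (e ▸ one_mem _) huz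
    · rw [e]; exact hxv
    · exact absurd (e ▸ mem_zpowers z) huz
    · rw [e, show x * (v * z) * x⁻¹ = (x * v * x⁻¹) * (x * z * x⁻¹) by group, hxv,
        (c.central x hx).eq, mul_inv_cancel_right]
  by_cases huz : u ∈ zpowers z
  · obtain ⟨i, rfl⟩ := huz
    exact mul_inv_eq_iff_eq_mul.2 ((c.central _ (mul_mem hs ht)).zpow_right i).eq
  · rw [show (s * t) * u * (s * t)⁻¹ = s * (t * u * t⁻¹) * s⁻¹ by group, move ht htU huz,
      show s * (u * z) * s⁻¹ = (s * u * s⁻¹) * (s * z * s⁻¹) by group, move hs hsU huz,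
      (c.central s hs).eq, mul_inv_cancel_right, mul_assoc, c.z_mul, mul_one]

theorem sq_mem {s : G} (hs : s ∈ (S : Subgroup G)) : s * s ∈ centralizer (U : Set G) := by
  by_cases h : s ∈ centralizer (U : Set G)
  · exact mul_mem h h
  · exact c.mul_mem_centralizer hs hs h h

theorem card_inf_centralizer {A : Subgroup G} (hA : Big S A) :
    4 ≤ Nat.card ↥(A ⊓ centralizer (U : Set G)) := by
  haveI : Fact (Nat.Prime 2) := ⟨Nat.prime_two⟩
  obtain ⟨k, hk⟩ := (CfsgLib.Invol.isPGroup_of_isElementaryAbelian hA.1).exists_card_eq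
  have h8 : 8 ≤ Nat.card A := by
    have h := hA.2.1
    rw [hk] at h ⊢
    have h3 : 3 ≤ k := by
      by_contra hlt
      have := Nat.pow_le_pow_right (show 0 < 2 by norm_num) (by omega : k ≤ 2)
      omega
    exact le_trans (by norm_num) (Nat.pow_le_pow_right two_pos h3)
  have hidx : ((centralizer (U : Set G)).subgroupOf A).index ≤ 2 := by
    by_cases hle : A ≤ centralizer (U : Set G)
    · rw [subgroupOf_eq_top.2 hle, index_top]; norm_num
    · obtain ⟨a, ha, haU⟩ := SetLike.not_le_iff_exists.1 hle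
      refine (Subgroup.index_eq_two_iff.2 ⟨⟨a, ha⟩, fun b => ?_⟩).le
      rcases Classical.em ((b : G) ∈ centralizer (U : Set G)) with hb | hb
      · exact Or.inr ⟨hb, fun hab => haU (by
          have := mul_mem (inv_mem hb) hab; simpa using this)⟩
      · exact Or.inl ⟨c.mul_mem_centralizer (hA.2.2 b.2) (hA.2.2 ha) hb haU, hb⟩
  have h1 := ((centralizer (U : Set G)).subgroupOf A).card_mul_index
  rw [Nat.card_congr (show ↥((centralizer (U : Set G)).subgroupOf A) ≃ ↥(A ⊓ centralizer (U : Set G)) from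
    { toFun := fun x => ⟨x.1.1, x.1.2, x.2⟩, invFun := fun x => ⟨⟨x.1, x.2.1⟩, x.2.2⟩,
      left_inv := fun _ => rfl, right_inv := fun _ => rfl })] at h1
  nlinarith

theorem ea_inf {A : Subgroup G} (hA : Cfsg.IsElementaryAbelian 2 A) :
    Cfsg.IsElementaryAbelian 2 (A ⊓ centralizer (U : Set G)) :=
  ⟨⟨⟨fun a b => Subtype.ext (ea_commute hA a.2.1 b.2.1)⟩⟩, fun a ha => hA.2 a ha.1⟩

theorem goodFour_U : GoodFour S U := by
  obtain ⟨A, hA⟩ := c.big
  by_cases hle : A ⊓ centralizer (U : Set G) ≤ U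
  · refine ⟨c.four, A, hA, ?_⟩
    rw [← Subgroup.eq_of_le_of_card_ge hle (by rw [c.four.card_four]; exact c.card_inf_centralizer hA)]
    exact inf_le_left
  · exact ⟨c.four, _, big_sup c.four c.le (c.ea_inf hA.1) (inf_le_left.trans hA.2.2)
      (fun u hu b hb => mem_centralizer_iff.1 hb.2 u hu) hle, le_sup_left⟩

theorem goodInvol_z : GoodInvol S z := c.goodFour_U.invol c.mem c.z_ne

/-- Involutions of `S` centralizing `U` are good. -/
theorem goodInvol_of_mem {x : G} (hxS : x ∈ (S : Subgroup G)) (hx : orderOf x = 2)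
    (hxU : x ∈ centralizer (U : Set G)) : GoodInvol S x := by
  by_cases h : x ∈ U
  · exact c.goodFour_U.invol h (fun e => by rw [e, orderOf_one] at hx; norm_num at hx)
  · have hB : Cfsg.IsElementaryAbelian 2 (zpowers x) := by
      refine ⟨⟨⟨fun a b => Subtype.ext ?_⟩⟩, ?_⟩
      · obtain ⟨i, hi⟩ := a.2
        obtain ⟨j, hj⟩ := b.2
        show (a : G) * b = b * a
        rw [← hi, ← hj]
        exact ((Commute.refl x).zpow_zpow i j).eq
      · rintro _ ⟨i, rfl⟩
        show (x ^ i) ^ 2 = 1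
        rw [← zpow_natCast, ← zpow_mul, mul_comm, zpow_mul, zpow_natCast, ← hx, pow_orderOf_eq_one,
          one_zpow]
    refine ⟨hx, _, big_sup c.four c.le hB (zpowers_le.2 hxS) ?_ (fun hle => h (hle (mem_zpowers x))),
      mem_sup_right (mem_zpowers x)⟩
    rintro u hu _ ⟨i, rfl⟩
    exact ((show Commute u x from mem_centralizer_iff.1 hxU u hu).zpow_right i).eq

section

variable (hFT : CfsgLib.OddConseq.OddSolvable.{u})
include hFT

/-- All good four-groups have the same closure of cores. -/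
theorem W_good {V : Subgroup G} (hV : GoodFour S V) : W V = W U := by
  obtain ⟨hV4, A, hA, hVA⟩ := hV
  have hbal := isBalanced_of_not_componentType c.notComp
  have hB := c.ea_inf hA.1
  obtain ⟨b, hb, hb1⟩ : ∃ b ∈ A ⊓ centralizer (U : Set G), b ≠ 1 := by
    rcases (A ⊓ centralizer (U : Set G)).bot_or_exists_ne_one with h | h
    · have := c.card_inf_centralizer hA
      rw [h, card_bot] at this; omega
    · exact h
  obtain ⟨X, hX, hXB, -⟩ := exists_four_mem hB (by have := c.card_inf_centralizer hA; omega) hb hb1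
  rw [W_adj hFT hbal ⟨hV4, hX, fun v hv x hx => (ea_commute hA.1 (hVA hv) (hXB hx).1).eq⟩,
    W_adj hFT hbal ⟨hX, c.four, fun x hx u hu => (mem_centralizer_iff.1 (hXB hx).2 u hu).symm⟩]

theorem theta_le_W {t : G} (ht : GoodInvol S t) : θ t ≤ W U := by
  obtain ⟨V, hV, htV⟩ := ht.four
  rw [← c.W_good hFT hV]
  refine CfsgLib.TwoGenCore.theta_le_W htV fun e => ?_
  have := ht.1
  rw [e, orderOf_one] at this
  norm_num at this

theorem W_odd : ¬ 2 ∣ Nat.card ↥(W U) := by
  haveI : Fact (Nat.Prime 2) := ⟨Nat.prime_two⟩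
  obtain ⟨hU, A, hA, hUA⟩ := c.goodFour_U
  obtain ⟨k, hk⟩ := (CfsgLib.Invol.isPGroup_of_isElementaryAbelian hA.1).exists_card_eq
  have h8 : 2 ^ 3 ≤ Nat.card A := by
    have h := hA.2.1
    rw [hk] at h ⊢
    refine Nat.pow_le_pow_right (by norm_num) ?_
    by_contra hlt
    have := Nat.pow_le_pow_right (show 0 < 2 by norm_num) (by omega : k ≤ 2)
    omega
  have h := W_eq_of_le hFT (isBalanced_of_not_componentType c.notComp) hU hA.1 h8 hUA
  rw [h.1]; exact h.2

/-- An element moving a good four-group to a good four-group normalizes `W U`. -/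
theorem mem_M_four {V : Subgroup G} (hV : GoodFour S V) {g : G}
    (hg : GoodFour S (V.map (MulAut.conj g).toMonoidHom)) : g ∈ normalizer (W U : Set G) := by
  rw [mem_normalizer_iff_map_conj_eq]
  show (W U).map (MulAut.conj g).toMonoidHom = W U
  conv_lhs => rw [← c.W_good hFT hV]
  rw [← W_conj, c.W_good hFT hg]

/-- An element moving a big subgroup inside `S` normalizes `W U`. -/
theorem mem_M {A : Subgroup G} (hA : Big S A) {g : G} (hg : ∀ x ∈ A, g * x * g⁻¹ ∈ (S : Subgroup G)) :
    g ∈ normalizer (W U : Set G) := by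
  obtain ⟨x, hx, hx1⟩ : ∃ x ∈ A, x ≠ 1 := by
    rcases A.bot_or_exists_ne_one with h | h
    · have := hA.2.1
      rw [h, card_bot] at this; omega
    · exact h
  obtain ⟨V, hV, hVA, -⟩ := exists_four_mem hA.1 (by have := hA.2.1; omega) hx hx1
  exact c.mem_M_four hFT ⟨hV, A, hA, hVA⟩
    ⟨Cfsg.Agent.S0520.four_conj hV g, _, hA.map hg, map_mono hVA⟩

theorem normalizer_le_M {A Q : Subgroup G} (hA : Big S A) (hAQ : A ≤ Q) (hQ : Q ≤ (S : Subgroup G)) :
    normalizer (Q : Set G) ≤ normalizer (W U : Set G) := fun g hg =>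
  c.mem_M hFT hA fun x hx => hQ ((mem_normalizer_iff.1 hg x).1 (hAQ hx))

theorem sylow_le_M : (S : Subgroup G) ≤ normalizer (W U : Set G) := fun s hs => by
  obtain ⟨A, hA⟩ := c.big
  exact c.mem_M hFT hA fun x hx => mul_mem (mul_mem hs (hA.2.2 hx)) (inv_mem hs)

end

end Setting

end CfsgLib.DichotomyTwo
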