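import Cfsg.Agent.Lib.Dichotomy.Basic
import Cfsg.Agent.Lib.Fusion.AlperinGoldschmidt
import Cfsg.Agent.Lib.Invol.NormalFourExists
import Cfsg.Agent.S3224

/-!
# Fusion in the setting without normal elementary subgroups of order eight

The normalizers of the members of Goldschmidt's conjugation family lie in the normalizer of the closure
of the cores, so that subgroup controls the fusion of `S`, once it contains `C(z)`.
-/

set_option autoImplicit false
set_option linter.style.haveILetI false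

namespace CfsgLib.DichotomyTwo

open Subgroup CfsgLib.TwoGenCore

universe u

variable {G : Type u} [Group G] [Finite G]

/-- A 2-group with an involution whose centralizer has order four has no elementary subgroup of order
eight. -/
theorem card_le_four_of_centralizer_four {P : Type*} [Group P] [Finite P] (hP : IsPGroup 2 P) (x : P)
    (hC : Nat.card ↥(centralizer ({x} : Set P)) = 4) (E : Subgroup P) (hE : ∀ e ∈ E, e ^ 2 = 1) :
    Nat.card E ≤ 4 := by
  haveI : Fact (Nat.Prime 2) := ⟨Nat.prime_two⟩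
  set C := centralizer ({x} : Set P) with hCdef
  by_cases hab : IsMulCommutative P
  · have hC' : C = ⊤ := top_le_iff.1 fun y _ => mem_centralizer_singleton_iff.2 (mul_comm' y x)
    rw [hC', card_top] at hC
    exact hC ▸ Subgroup.card_le_card_group E
  have hcard : Nat.card P ≤ 4 * Nat.card (commutator P) := by
    rw [← C.card_mul_index, hC]
    refine Nat.mul_le_mul_left 4 ?_
    let f : P ⧸ C → commutator P := Quotient.lift (fun g : P => (⟨g * x * g⁻¹ * x⁻¹, by
        rw [← commutatorElement_def]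
        exact commutator_mem_commutator (mem_top g) (mem_top x)⟩ : commutator P))
      (fun g h hgh => by
        have h1 : g⁻¹ * h ∈ C := QuotientGroup.leftRel_apply.1 hgh
        have h2 : g⁻¹ * h * x = x * (g⁻¹ * h) := mem_centralizer_singleton_iff.1 h1
        refine Subtype.ext ?_
        show g * x * g⁻¹ * x⁻¹ = h * x * h⁻¹ * x⁻¹
        rw [show h * x * h⁻¹ = g * (g⁻¹ * h * x) * h⁻¹ by group, h2]
        group)
    refine Nat.card_le_card_of_injective f fun q q' hqq' => ?_
    obtain ⟨g, rfl⟩ := QuotientGroup.mk_surjective q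
    obtain ⟨h, rfl⟩ := QuotientGroup.mk_surjective q'
    have h1 : g * x * g⁻¹ * x⁻¹ = h * x * h⁻¹ * x⁻¹ := congrArg Subtype.val hqq'
    refine QuotientGroup.eq.2 (mem_centralizer_singleton_iff.2 ?_)
    rw [mul_left_inj] at h1
    calc g⁻¹ * h * x = g⁻¹ * (h * x * h⁻¹) * h := by group
      _ = g⁻¹ * (g * x * g⁻¹) * h := by rw [h1]
      _ = x * (g⁻¹ * h) := by group
  obtain ⟨k, r, e, a, b, -, F⟩ := CfsgLib.Invol.exists_std_frame hP hab hcard
  exact CfsgLib.Invol.card_le_four_of_frame F E hE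

/-- The members of Goldschmidt's family contain their centralizers in the Sylow group. -/
theorem mem_of_commute_of_good {S : Sylow 2 G} {D : Subgroup G} (hD : CfsgLib.Fusion.Goldschmidt.Good S D)
    {s : G} (hs : s ∈ (S : Subgroup G)) (hc : ∀ d ∈ D, Commute s d) : s ∈ D := by
  haveI : Fact (Nat.Prime 2) := ⟨Nat.prime_two⟩
  obtain ⟨hDS, hcen, ⟨-, -, hcomm, hinf, hsup⟩, -⟩ := hD
  have hs' : s ∈ CfsgLib.Fusion.Goldschmidt.core' 2 D ⊔ D :=
    hsup.symm ▸ hcen (mem_centralizer_iff.2 fun d hd => (hc d hd).eq.symm)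
  obtain ⟨o, ho, d, hd, rfl⟩ : ∃ o ∈ CfsgLib.Fusion.Goldschmidt.core' 2 D, ∃ d ∈ D, o * d = s :=
    CfsgLib.Coprime.mem_sup_exists (H := D) (N := CfsgLib.Fusion.Goldschmidt.core' 2 D) (fun b hb =>
      Subgroup.centralizer_le_normalizer ((CfsgLib.Fusion.Goldschmidt.core' 2 D : Subgroup G) : Set G)
        (mem_centralizer_iff.2 fun a ha => hcomm a ha b hb)) hs'
  obtain ⟨i, hi⟩ := S.2 ⟨o * d, hs⟩
  have hi' : (o * d) ^ 2 ^ i = 1 := congrArg Subtype.val hi
  rw [(show Commute o d from hcomm o ho d hd).mul_pow] at hi'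
  have hoi : o ^ 2 ^ i ∈ CfsgLib.Fusion.Goldschmidt.core' 2 D ⊓ D :=
    Subgroup.mem_inf.2
      ⟨pow_mem ho _, by rw [eq_inv_of_mul_eq_one_left hi']; exact inv_mem (pow_mem hd _)⟩
  rw [hinf, mem_bot] at hoi
  have ho1 : o = 1 := by
    obtain ⟨w, hw, rfl⟩ := ho
    have hw2 : ((w : ↥(normalizer (D : Set G))) ^ 2 ^ i) = 1 := Subtype.ext hoi
    have h3 : (orderOf w).Coprime 2 := (CfsgLib.Coprime.pPrimeCore_coprime Nat.prime_two).coprime_dvd_left
      (Subgroup.orderOf_dvd_natCard _ hw)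
    rw [orderOf_eq_one_iff.1 (Nat.eq_one_of_dvd_coprimes (h3.pow_right i) dvd_rfl
      (orderOf_dvd_of_pow_eq_one hw2)), map_one]
  rw [ho1, one_mul]
  exact hd

namespace Setting

variable {S : Sylow 2 G} {U : Subgroup G} {z : G} (c : Setting S U z)

include c

variable (hFT : CfsgLib.OddConseq.OddSolvable.{u})
include hFT

/-- The normalizers of the members of the conjugation family lie in `N(W U)`. -/
theorem normalizer_good_le (hCz : centralizer ({z} : Set G) ≤ normalizer (W U : Set G)) {D : Subgroup G}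
    (hD : CfsgLib.Fusion.Goldschmidt.Good S D) :
    normalizer (D : Set G) ≤ normalizer (W U : Set G) := by
  haveI : Fact (Nat.Prime 2) := ⟨Nat.prime_two⟩
  have hDS : D ≤ (S : Subgroup G) := hD.1
  by_cases hbig : ∃ A, Big S A ∧ A ≤ D
  · obtain ⟨A, hA, hAD⟩ := hbig
    exact c.normalizer_le_M hFT hA hAD hDS
  intro g hg
  have hconj : ∀ x ∈ D, g * x * g⁻¹ ∈ D := fun x hx => (mem_normalizer_iff.1 hg x).1 hx
  have hfix : g * z * g⁻¹ = z → g ∈ normalizer (W U : Set G) := fun e =>
    hCz (mem_centralizer_singleton_iff.2 (mul_inv_eq_iff_eq_mul.1 e))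
  have hzD : z ∈ D := mem_of_commute_of_good hD (c.le c.mem) fun d hd => (c.central d (hDS hd)).symm
  have hcz : ∀ d ∈ D, Commute d (g * z * g⁻¹) := by
    intro d hd
    have h1 := c.central _ (hDS (show g⁻¹ * d * g ∈ D by
      refine (mem_normalizer_iff.1 hg _).2 ?_
      rwa [show g * (g⁻¹ * d * g) * g⁻¹ = d by group]))
    have h2 := h1.map (MulAut.conj g).toMonoidHom
    rwa [show (MulAut.conj g).toMonoidHom (g⁻¹ * d * g) = d by
      simp [mul_assoc]] at h2
  by_contra hgM
  obtain ⟨v, hv⟩ : ∃ v, v = g * z * g⁻¹ := ⟨_, rfl⟩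
  rw [← hv] at hcz hfix
  have hvD : v ∈ D := hv ▸ hconj z hzD
  have hvz : v ≠ z := fun e => hgM (hfix e)
  have hvo : orderOf v = 2 := hv ▸ CfsgLib.Invol.invol_conj c.invol g
  obtain ⟨V, hVdef⟩ : ∃ V, V = Subgroup.closure ({z, v} : Set G) := ⟨_, rfl⟩
  have hV : IsKleinFour V :=
    hVdef ▸ CfsgLib.Invol.isKleinFour_closure_pair c.invol hvo hvz.symm (hcz z hzD)
  have hzV : z ∈ V := hVdef ▸ subset_closure (Set.mem_insert _ _)
  have hvV : v ∈ V := hVdef ▸ subset_closure (Set.mem_insert_of_mem _ rfl)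
  have hVD : V ≤ D := hVdef ▸ (closure_le _).2 (by rintro w (rfl | rfl) <;> assumption)
  have hVcen : ∀ w ∈ V, ∀ d ∈ D, Commute w d := by
    intro w hw d hd
    refine (CfsgLib.Invol.commute_of_mem_closure ?_ (hVdef ▸ hw : w ∈ Subgroup.closure ({z, v} : Set G))).symm
    rintro y (rfl | rfl)
    exacts [c.central d (hDS hd), hcz d hd]
  -- every involution of `D` lies in `V`
  have hinv : ∀ x ∈ D, x * x = 1 → x ∈ V := by
    intro x hx hx2
    by_contra hxV
    have hB : Cfsg.IsElementaryAbelian 2 (zpowers x) := by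
      refine ⟨⟨⟨fun a b => Subtype.ext ?_⟩⟩, ?_⟩
      · obtain ⟨i, hi⟩ := a.2
        obtain ⟨j, hj⟩ := b.2
        show (a : G) * b = b * a
        rw [← hi, ← hj]
        exact ((Commute.refl x).zpow_zpow i j).eq
      · rintro _ ⟨i, rfl⟩
        show (x ^ i) ^ 2 = 1
        rw [← zpow_natCast, ← zpow_mul, mul_comm, zpow_mul, zpow_natCast, pow_two, hx2, one_zpow]
    refine hbig ⟨_, big_sup hV (hVD.trans hDS) hB (zpowers_le.2 (hDS hx)) ?_
      (fun hle => hxV (hle (mem_zpowers x))), sup_le hVD (zpowers_le.2 hx)⟩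
    rintro w hw _ ⟨i, rfl⟩
    exact ((hVcen w hw x hx).zpow_right i).eq
  by_cases hVU : V ≤ centralizer (U : Set G)
  · -- `V` is good
    have hgood : GoodFour S V := by
      by_cases hle : V ≤ U
      · rw [Subgroup.eq_of_le_of_card_ge hle (by rw [c.four.card_four, hV.card_four])]
        exact c.goodFour_U
      · exact ⟨hV, _, big_sup c.four c.le (four_elem hV) (hVD.trans hDS)
          (fun a ha b hb => mem_centralizer_iff.1 (hVU hb) a ha) hle, le_sup_right⟩
    refine hgM (c.mem_M_four hFT hgood ?_)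
    have heq : V.map (MulAut.conj g).toMonoidHom = V := by
      refine Subgroup.eq_of_le_of_card_ge ?_
        (by rw [card_map_of_injective (MulAut.conj g).injective])
      rintro _ ⟨x, hx, rfl⟩
      refine hinv _ (hconj x (hVD hx)) ?_
      show g * x * g⁻¹ * (g * x * g⁻¹) = 1
      rw [show g * x * g⁻¹ * (g * x * g⁻¹) = g * (x * x) * g⁻¹ by group,
        ← pow_two, Cfsg.Agent.S0520.four_sq hV hx, mul_one, mul_inv_cancel]
    rw [heq]
    exact hgood
  have hzU : z ∈ centralizer (U : Set G) := mem_centralizer_iff.2 fun u hu => (c.central u (c.le hu)).eq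
  have hvU : v ∉ centralizer (U : Set G) := fun h => hVU (by
    rw [hVdef, closure_le]
    rintro w (rfl | rfl) <;> assumption)
  have hv1 : v ≠ 1 := fun e => by rw [e, orderOf_one] at hvo; norm_num at hvo
  -- the involutions of `D` centralizing `U` are trivial or `z`
  have honly : ∀ x ∈ D, x * x = 1 → x ≠ 1 → x ∈ centralizer (U : Set G) → x = z := by
    intro x hx hx2 hx1 hxU
    rcases four_cases hV hzV hvV c.z_ne hv1 hvz.symm (hinv x hx hx2) with e | e | e | e
    · exact absurd e hx1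
    · exact e
    · exact absurd (e ▸ hxU) hvU
    · refine absurd ?_ hvU
      have := mul_mem hzU (e ▸ hxU)
      rwa [← mul_assoc, c.z_mul, one_mul] at this
  by_cases hsq : ∃ b ∈ D, b * b ≠ 1 ∧ (b * b) * (b * b) = 1
  · obtain ⟨b, hb, hb1, hb2⟩ := hsq
    have hbz : b * b = z := honly _ (mul_mem hb hb) hb2 hb1 (c.sq_mem (hDS hb))
    refine hvz (honly v hvD ?_ hv1 ?_)
    · rw [← pow_two, ← hvo, pow_orderOf_eq_one]
    · have := c.sq_mem (hDS (hconj b hb))
      rwa [show g * b * g⁻¹ * (g * b * g⁻¹) = g * (b * b) * g⁻¹ by group, hbz, ← hv] at this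
  -- otherwise `D = V` and `C_S(v)` has order four
  push Not at hsq
  have hsq1 : ∀ x ∈ D, x * x = 1 := by
    intro x hx
    by_contra hx2
    obtain ⟨k, hk⟩ := S.2 ⟨x, hDS hx⟩
    have hk' : x ^ 2 ^ k = 1 := congrArg Subtype.val hk
    obtain ⟨j, hj, hj'⟩ : ∃ j, (x ^ 2 ^ j) ^ 2 ≠ 1 ∧ ((x ^ 2 ^ j) ^ 2) ^ 2 = 1 := by
      by_contra hno
      push Not at hno
      have key : ∀ n, x ^ 2 ^ (n + 1) ≠ 1 := by
        intro n
        induction n with
        | zero => rw [zero_add, pow_one, pow_two]; exact hx2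
        | succ n ih =>
          rw [pow_succ 2 (n + 1), pow_mul]
          have hn := hno n (by rwa [← pow_mul, ← pow_succ])
          rwa [← pow_mul (x) (2 ^ n) 2, ← pow_succ] at hn
      rcases k with _ | k
      · rw [pow_zero, pow_one] at hk'; exact hx2 (by rw [hk', one_mul])
      · exact key k hk'
    exact hsq (x ^ 2 ^ j) (pow_mem hx _) (by rwa [← pow_two]) (by rwa [← pow_two, ← pow_two])
  have hDV : D ≤ V := fun x hx => hinv x hx (hsq1 x hx)
  obtain ⟨A, hA⟩ := c.big
  let v' : ↥(S : Subgroup G) := ⟨v, hDS hvD⟩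
  have hC4 : Nat.card ↥(centralizer ({v'} : Set ↥(S : Subgroup G))) = 4 := by
    have heq : centralizer ({v'} : Set ↥(S : Subgroup G)) = V.subgroupOf (S : Subgroup G) := by
      ext s
      rw [mem_centralizer_singleton_iff, mem_subgroupOf]
      refine ⟨fun h => hDV (mem_of_commute_of_good hD s.2 fun d hd => ?_), fun h => ?_⟩
      · refine (CfsgLib.Invol.commute_of_mem_closure ?_ (hVdef ▸ hDV hd : d ∈ Subgroup.closure ({z, v} : Set G)))
        rintro y (rfl | rfl)
        exacts [c.central _ s.2, congrArg Subtype.val h]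
      · exact Subtype.ext (hVcen _ h v hvD).eq
    rw [heq, Nat.card_congr (subgroupOfEquivOfLe (hVD.trans hDS)).toEquiv, hV.card_four]
  have h4 := card_le_four_of_centralizer_four (P := ↥(S : Subgroup G)) S.2 v' hC4
    (A.subgroupOf (S : Subgroup G)) fun e he => Subtype.ext (hA.1.2 _ he)
  rw [Nat.card_congr (subgroupOfEquivOfLe hA.2.2).toEquiv] at h4
  exact absurd h4 (not_le.2 hA.2.1)

/-- `N(W U)` controls the fusion of elements of `S`. -/
theorem fusion (hCz : centralizer ({z} : Set G) ≤ normalizer (W U : Set G)) {x g : G}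
    (hx : x ∈ (S : Subgroup G)) (hg : g * x * g⁻¹ ∈ (S : Subgroup G)) :
    ∃ h ∈ normalizer (W U : Set G), h * x * h⁻¹ = g * x * g⁻¹ := by
  haveI : Fact (Nat.Prime 2) := ⟨Nat.prime_two⟩
  obtain ⟨D, k, h, -, -, hk, hh, hgk⟩ := CfsgLib.Fusion.Goldschmidt.exists_gchain S {x} g⁻¹
    (Set.singleton_subset_iff.2 hx) (by
      rintro _ ⟨a, ha, rfl⟩
      rw [Set.mem_singleton_iff] at ha
      show g⁻¹⁻¹ * a * g⁻¹ ∈ (S : Subgroup G)
      rwa [ha, inv_inv])
  have hchain : ∀ {D : Subgroup G} {h : G}, CfsgLib.Fusion.Goldschmidt.GChain S D h →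
      h ∈ normalizer (W U : Set G) := by
    intro D h hD
    induction hD with
    | nil D => exact one_mem _
    | cons E x hE hx _ _ ih => exact mul_mem (c.normalizer_good_le hFT hCz hE hx) ih
  refine ⟨h⁻¹, inv_mem (hchain hh), ?_⟩
  have hkx : k⁻¹ * x * k = x := by
    have := mem_centralizer_iff.1 hk x rfl
    rw [mul_assoc, this, inv_mul_cancel_left]
  have e : g = h⁻¹ * k⁻¹ := by rw [← mul_inv_rev, ← hgk, inv_inv]
  calc h⁻¹ * x * h⁻¹⁻¹ = h⁻¹ * (k⁻¹ * x * k) * h⁻¹⁻¹ := by rw [hkx]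
    _ = g * x * g⁻¹ := by rw [e]; group

end Setting

end CfsgLib.DichotomyTwo
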