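import Cfsg.Agent.Lib.OddConseq.TwoGenCoreEmbedded
import Mathlib.Data.Nat.Factorization.Basic

/-!
# The constrained quotient of an involution centralizer

For a group not of component type, `corePre t` is the preimage in `C(t)` of the 2-core of `C(t)/O(C(t))`.
-/

set_option autoImplicit false
set_option linter.style.haveILetI false

namespace CfsgLib.DichotomyTwo

open Subgroup CfsgLib.TwoGenCore

universe u

/-- An element acting on the 2-core through a central involution lies in it. -/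
theorem mem_pCore_of_series {L : Type u} [Group L] [Finite L]
    (hC : centralizer (Cfsg.pCore 2 L : Set L) ≤ Cfsg.pCore 2 L) {e : L} (he : e * e = 1)
    (hec : ∀ x : L, Commute e x) {x : L} (hx : ∀ r ∈ Cfsg.pCore 2 L, x * r * x⁻¹ * r⁻¹ ∈ zpowers e) :
    x ∈ Cfsg.pCore 2 L := by
  haveI : Fact (Nat.Prime 2) := ⟨Nat.prime_two⟩
  haveI hRn : (Cfsg.pCore 2 L).Normal := CfsgLib.Coprime.pCore_normal' 2
  have hcen : ∀ {w : L}, w ∈ zpowers e → ∀ k : L, k * w * k⁻¹ = w := by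
    rintro _ ⟨i, rfl⟩ k
    exact mul_inv_eq_iff_eq_mul.2 (((hec k).zpow_left i).symm.eq)
  let K : Subgroup L :=
    { carrier := {k | ∀ r ∈ Cfsg.pCore 2 L, k * r * k⁻¹ * r⁻¹ ∈ zpowers e}
      one_mem' := fun r _ => by simp
      mul_mem' := fun {a b} ha hb r hr => by
        rw [show a * b * r * (a * b)⁻¹ * r⁻¹ = a * (b * r * b⁻¹ * r⁻¹) * a⁻¹ * (a * r * a⁻¹ * r⁻¹) by group,
          hcen (hb r hr)]
        exact mul_mem (hb r hr) (ha r hr)
      inv_mem' := fun {a} ha r hr => by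
        have h := inv_mem (ha r hr)
        rw [← hcen h a⁻¹] at h
        convert h using 1
        group }
  haveI : K.Normal := ⟨fun k hk g r hr => by
    have h := hk _ (hRn.conj_mem r hr g⁻¹)
    rw [← hcen h g] at h
    convert h using 1
    group⟩
  have hKodd : ∀ k ∈ K, Odd (orderOf k) → k = 1 := by
    intro k hk hodd
    have hkR : k ∈ Cfsg.pCore 2 L := by
      refine hC (mem_centralizer_iff.2 fun r hr => ?_)
      obtain ⟨ε, hε⟩ : ∃ ε, ε = k * r * k⁻¹ * r⁻¹ := ⟨_, rfl⟩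
      have hεz : ε ∈ zpowers e := hε ▸ hk r hr
      have hit : ∀ n : ℕ, k ^ n * r * (k ^ n)⁻¹ = ε ^ n * r := by
        intro n
        induction n with
        | zero => simp
        | succ n ih =>
          calc k ^ (n + 1) * r * (k ^ (n + 1))⁻¹ = k * (k ^ n * r * (k ^ n)⁻¹) * k⁻¹ := by
                rw [pow_succ']; group
            _ = (k * ε ^ n * k⁻¹) * (k * r * k⁻¹) := by rw [ih]; group
            _ = ε ^ n * (ε * r) := by rw [hcen (pow_mem hεz n), hε, inv_mul_cancel_right]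
            _ = ε ^ (n + 1) * r := by rw [pow_succ, mul_assoc]
      have h1 := hit (orderOf k)
      rw [pow_orderOf_eq_one, one_mul, inv_one, mul_one, eq_comm, mul_eq_right] at h1
      have h2 : ε ^ 2 = 1 := by
        obtain ⟨i, rfl⟩ := hεz
        rw [← zpow_natCast, ← zpow_mul, mul_comm, zpow_mul, zpow_natCast, pow_two, he, one_zpow]
      obtain ⟨m, hm⟩ := hodd
      rw [hm, pow_succ, pow_mul, h2, one_pow, one_mul, hε, mul_inv_eq_one] at h1
      exact (mul_inv_eq_iff_eq_mul.1 h1).symm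
    obtain ⟨i, hi⟩ := (IsPGroup.iff_orderOf.1 (CfsgLib.Coprime.pCore_isPGroup (G := L) 2)) ⟨k, hkR⟩
    rw [Subgroup.orderOf_mk] at hi
    rcases Nat.eq_zero_or_pos i with rfl | hi0
    · exact orderOf_eq_one_iff.1 (by rw [hi, pow_zero])
    · exact absurd ((dvd_pow_self 2 hi0.ne').trans hi.symm.dvd) (fun h => hodd.not_two_dvd_nat h)
  have hKp : IsPGroup 2 K := by
    rw [IsPGroup.iff_orderOf]
    intro k
    obtain ⟨a, m, hm, hka⟩ := Nat.exists_eq_two_pow_mul_odd (orderOf_pos k).ne'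
    refine ⟨a, ?_⟩
    have ho : orderOf ((k : L) ^ 2 ^ a) = m := by
      rw [orderOf_pow, Subgroup.orderOf_coe, hka, Nat.gcd_eq_right (dvd_mul_right _ _),
        Nat.mul_div_cancel_left _ (by positivity)]
    have h1 := hKodd _ (pow_mem k.2 _) (ho ▸ hm)
    rw [h1, orderOf_one] at ho
    rw [hka, ← ho, mul_one]
  exact CfsgLib.Coprime.le_pCore hKp (show x ∈ K from hx)

variable {G : Type u} [Group G] [Finite G]

local notation "θ" => Cfsg.centralizerPPrimeCore 2

/-- The preimage in `C(t)` of the 2-core of `C(t)/O(C(t))`. -/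
def corePre (t : G) : Subgroup G :=
  ((Cfsg.pCore 2 (↥(centralizer ({t} : Set G)) ⧸ Cfsg.oddCore ↥(centralizer ({t} : Set G)))).comap
    (QuotientGroup.mk' (Cfsg.oddCore ↥(centralizer ({t} : Set G))))).map
    (centralizer ({t} : Set G)).subtype

/-- The quotient of `C(t)` by its core is constrained. -/
theorem constrained (hc : ¬ Cfsg.IsComponentType G) {t : G} (ht : orderOf t = 2) :
    centralizer (Cfsg.pCore 2 (↥(centralizer ({t} : Set G)) ⧸ Cfsg.oddCore ↥(centralizer ({t} : Set G))) :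
        Set (↥(centralizer ({t} : Set G)) ⧸ Cfsg.oddCore ↥(centralizer ({t} : Set G)))) ≤
      Cfsg.pCore 2 (↥(centralizer ({t} : Set G)) ⧸ Cfsg.oddCore ↥(centralizer ({t} : Set G))) :=
  CfsgLib.CoreUnique.centralizer_pCore_le (fun h => hc ⟨t, ht, h⟩)
    (CfsgLib.Coprime.pPrimeCore_quotient_eq_bot Nat.prime_two)

theorem mem_theta {t : G} (x : ↥(centralizer ({t} : Set G))) :
    (x : G) ∈ θ t ↔ QuotientGroup.mk' (Cfsg.oddCore ↥(centralizer ({t} : Set G))) x = 1 := by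
  rw [QuotientGroup.mk'_apply, QuotientGroup.eq_one_iff]
  exact ⟨fun ⟨y, hy, e⟩ => (Subtype.ext e : y = x) ▸ hy, fun h => ⟨x, h, rfl⟩⟩

theorem mem_corePre {t : G} (x : ↥(centralizer ({t} : Set G))) :
    (x : G) ∈ corePre t ↔ QuotientGroup.mk' (Cfsg.oddCore ↥(centralizer ({t} : Set G))) x ∈
      Cfsg.pCore 2 (↥(centralizer ({t} : Set G)) ⧸ Cfsg.oddCore ↥(centralizer ({t} : Set G))) := by
  rw [← mem_comap]
  exact ⟨fun ⟨y, hy, e⟩ => (Subtype.ext e : y = x) ▸ hy, fun h => ⟨x, h, rfl⟩⟩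

theorem corePre_le (t : G) : corePre t ≤ centralizer ({t} : Set G) := map_subtype_le _

/-- Odd subgroups commute with the 2-core modulo the core. -/
theorem commutator_mem_theta {t : G} {Y : Subgroup G} (hY : Y ≤ centralizer ({t} : Set G))
    (hYodd : ¬ 2 ∣ Nat.card Y) {x : G} (hx : x ∈ corePre t) (hxY : x ∈ normalizer (Y : Set G)) {y : G}
    (hy : y ∈ Y) : x * y * x⁻¹ * y⁻¹ ∈ θ t := by
  haveI : Fact (Nat.Prime 2) := ⟨Nat.prime_two⟩
  set C := centralizer ({t} : Set G)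
  set f := QuotientGroup.mk' (Cfsg.oddCore ↥C)
  haveI hRn : (Cfsg.pCore 2 (↥C ⧸ Cfsg.oddCore ↥C)).Normal := CfsgLib.Coprime.pCore_normal' 2
  have hxC : x ∈ C := corePre_le t hx
  have hm : x * y * x⁻¹ * y⁻¹ ∈ Y := mul_mem ((mem_normalizer_iff.1 hxY y).1 hy) (inv_mem hy)
  obtain ⟨w, hw⟩ : ∃ w : C, w = ⟨x * y * x⁻¹ * y⁻¹, hY hm⟩ := ⟨_, rfl⟩
  have hxR := (mem_corePre (⟨x, hxC⟩ : C)).1 hx
  have hwR : f w ∈ Cfsg.pCore 2 (↥C ⧸ Cfsg.oddCore ↥C) := by
    have e : w = ⟨x, hxC⟩ * (⟨y, hY hy⟩ * ⟨x, hxC⟩⁻¹ * ⟨y, hY hy⟩⁻¹) := by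
      rw [hw]; refine Subtype.ext ?_; push_cast; group
    rw [e, map_mul, map_mul, map_mul, map_inv, map_inv]
    exact mul_mem hxR (hRn.conj_mem _ (inv_mem hxR) _)
  have ho : orderOf (f w) ∣ Nat.card Y := by
    refine (orderOf_map_dvd f w).trans ?_
    rw [← Subgroup.orderOf_coe, hw]
    exact Subgroup.orderOf_dvd_natCard _ hm
  obtain ⟨i, hi⟩ := (IsPGroup.iff_orderOf.1 (CfsgLib.Coprime.pCore_isPGroup 2)) ⟨f w, hwR⟩
  rw [Subgroup.orderOf_mk] at hi
  have h1 : f w = 1 := by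
    rcases Nat.eq_zero_or_pos i with rfl | hi0
    · exact orderOf_eq_one_iff.1 (by rw [hi, pow_zero])
    · exact absurd ((dvd_pow_self 2 hi0.ne').trans (hi ▸ ho)) hYodd
  rw [show x * y * x⁻¹ * y⁻¹ = (w : G) by rw [hw]]
  exact (mem_theta w).2 h1

/-- An odd subgroup with small fixed points under an element of the 2-core lies in the core. -/
theorem le_theta_of_fixed {t : G} {Y : Subgroup G} (hY : Y ≤ centralizer ({t} : Set G))
    (hYodd : ¬ 2 ∣ Nat.card Y) {x : G} (hx : orderOf x = 2) (hxt : x ∈ corePre t)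
    (hxY : x ∈ normalizer (Y : Set G))
    (hfix : ∀ y ∈ Y, Commute x y → y ∈ θ t) : Y ≤ θ t := by
  haveI : Fact (Nat.Prime 2) := ⟨Nat.prime_two⟩
  intro y hy
  have hxT : x ∈ normalizer (θ t : Set G) := by
    have hn := CfsgLib.Coprime.pPrimeCore_characteristic (G := ↥(centralizer ({t} : Set G))) 2
    exact Subgroup.le_normalizer_map _ (mem_map_of_mem _ (show (⟨x, corePre_le t hxt⟩ :
      ↥(centralizer ({t} : Set G))) ∈ normalizer (Cfsg.oddCore ↥(centralizer ({t} : Set G)) : Set _) by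
        rw [Subgroup.normalizer_eq_top]; trivial))
  have hzle : ∀ {N : Subgroup G}, x ∈ normalizer (N : Set G) → zpowers x ≤ normalizer (N : Set G) :=
    fun h => zpowers_le.2 h
  have hZp : IsPGroup 2 (zpowers x) := IsPGroup.of_card (n := 1) (by rw [Nat.card_zpowers, hx, pow_one])
  have hne : y ∈ normalizer ((Y ⊓ θ t : Subgroup G) : Set G) := by
    have h1 : y ∈ normalizer (θ t : Set G) := by
      have hn := CfsgLib.Coprime.pPrimeCore_characteristic (G := ↥(centralizer ({t} : Set G))) 2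
      exact Subgroup.le_normalizer_map _ (mem_map_of_mem _ (show (⟨y, hY hy⟩ :
        ↥(centralizer ({t} : Set G))) ∈ normalizer (Cfsg.oddCore ↥(centralizer ({t} : Set G)) : Set _) by
          rw [Subgroup.normalizer_eq_top]; trivial))
    exact CfsgLib.Coprime.inf_le_normalizer (A := zpowers y) (zpowers_le.2 (le_normalizer hy)) (zpowers_le.2 h1)
      (mem_zpowers y)
  obtain ⟨n, hn, hyn⟩ := CfsgLib.Coprime.exists_fixed_in_coset (A := zpowers x) (N := Y ⊓ θ t) (k := y)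
    (CfsgLib.Coprime.inf_le_normalizer (hzle hxY) (hzle hxT))
    (by
      obtain ⟨i, hi⟩ := IsPGroup.iff_card.1 hZp
      rw [hi]
      exact Nat.Coprime.pow_left i ((Nat.prime_two.coprime_iff_not_dvd).2
        fun hd => hYodd (hd.trans (card_dvd_of_le inf_le_left))))
    (Or.inl (by haveI := hZp.isNilpotent; infer_instance)) hne (fun a ha => by
      obtain ⟨i, rfl⟩ := ha
      rcases Int.even_or_odd' i with ⟨j, rfl | rfl⟩
      · simp only [show x ^ (2 * j) = 1 by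
          rw [zpow_mul, zpow_ofNat, ← hx, pow_orderOf_eq_one, one_zpow]]
        simp
      · simp only [show x ^ (2 * j + 1) = x by
          rw [zpow_add, zpow_mul, zpow_ofNat, ← hx, pow_orderOf_eq_one, one_zpow, one_mul, zpow_one]]
        exact ⟨Y.mul_mem ((mem_normalizer_iff.1 hxY y).1 hy) (Y.inv_mem hy),
          commutator_mem_theta hY hYodd hxt hxY hy⟩)
  have hyY : y * n ∈ Y := mul_mem hy hn.1
  have h1 := hfix _ hyY (mem_centralizer_iff.1 hyn x (mem_zpowers x))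
  have h2 := mul_mem h1 ((θ t).inv_mem (mem_inf.1 hn).2)
  rwa [mul_inv_cancel_right] at h2

variable (hc : ¬ Cfsg.IsComponentType G) {t : G} (ht : orderOf t = 2) {T : Subgroup G}
  (hT : IsPGroup 2 T) (hTC : T ≤ centralizer ({t} : Set G))
  (hTmax : ∀ R : Subgroup G, IsPGroup 2 R → R ≤ centralizer ({t} : Set G) → T ≤ R → R = T)

include hT hTC hTmax

/-- The Sylow subgroup covers the 2-core. -/
theorem exists_mem_sylow (r : ↥(centralizer ({t} : Set G)) ⧸ Cfsg.oddCore ↥(centralizer ({t} : Set G)))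
    (hr : r ∈ Cfsg.pCore 2 (↥(centralizer ({t} : Set G)) ⧸ Cfsg.oddCore ↥(centralizer ({t} : Set G)))) :
    ∃ s : ↥(centralizer ({t} : Set G)), (s : G) ∈ T ∧
      QuotientGroup.mk' (Cfsg.oddCore ↥(centralizer ({t} : Set G))) s = r := by
  haveI : Fact (Nat.Prime 2) := ⟨Nat.prime_two⟩
  set C := centralizer ({t} : Set G)
  haveI hRn : (Cfsg.pCore 2 (↥C ⧸ Cfsg.oddCore ↥C)).Normal := CfsgLib.Coprime.pCore_normal' 2
  obtain ⟨T', hTT'⟩ := (hT.comap_subtype (K := C)).exists_le_sylow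
  have hle : T ≤ (T' : Subgroup C).map C.subtype := fun x hx => ⟨⟨x, hTC hx⟩, hTT' hx, rfl⟩
  have e := hTmax _ (T'.isPGroup'.map C.subtype) (map_subtype_le _) hle
  have h := (CfsgLib.Coprime.pCore_isPGroup (G := ↥C ⧸ Cfsg.oddCore ↥C) 2).le_sylow_of_normal
    (T'.mapSurjective (QuotientGroup.mk'_surjective _))
  rw [Sylow.coe_mapSurjective] at h
  obtain ⟨s, hs, hsr⟩ := h hr
  exact ⟨s, e.le ⟨s, hs, rfl⟩, hsr⟩

include hc ht in
/-- An element of the Sylow subgroup centralizing it modulo `t` lies in the preimage of the 2-core. -/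
theorem mem_corePre_of_series {x : G} (hxT : x ∈ T)
    (hx : ∀ s ∈ T, x * s * x⁻¹ * s⁻¹ ∈ zpowers t) : x ∈ corePre t := by
  set C := centralizer ({t} : Set G)
  set f := QuotientGroup.mk' (Cfsg.oddCore ↥C)
  have htC : t ∈ C := mem_centralizer_singleton_iff.2 rfl
  refine (mem_corePre (⟨x, hTC hxT⟩ : C)).2 (mem_pCore_of_series (constrained hc ht)
    (e := f ⟨t, htC⟩) ?_ ?_ ?_)
  · rw [← map_mul, show (⟨t, htC⟩ : C) * ⟨t, htC⟩ = 1 from Subtype.ext (by
      show t * t = 1; rw [← pow_two, ← ht, pow_orderOf_eq_one]), map_one]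
  · intro y
    obtain ⟨w, rfl⟩ := QuotientGroup.mk'_surjective _ y
    exact (show Commute (⟨t, htC⟩ : C) w from
      Subtype.ext (mem_centralizer_singleton_iff.1 w.2).symm).map f
  · intro r hr
    obtain ⟨s, hs, rfl⟩ := exists_mem_sylow hT hTC hTmax r hr
    obtain ⟨i, hi⟩ := hx s hs
    refine ⟨i, ?_⟩
    show (f ⟨t, htC⟩) ^ i = f ⟨x, hTC hxT⟩ * f s * (f ⟨x, hTC hxT⟩)⁻¹ * (f s)⁻¹
    rw [← map_zpow, ← map_inv, ← map_inv, ← map_mul, ← map_mul, ← map_mul]
    refine congrArg f (Subtype.ext ?_)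
    push_cast
    exact hi

include hc ht in
/-- An odd subgroup normalized by a Sylow subgroup lies in the core. -/
theorem le_theta_of_sylow {Y : Subgroup G} (hY : Y ≤ centralizer ({t} : Set G))
    (hYodd : ¬ 2 ∣ Nat.card Y) (hTY : T ≤ normalizer (Y : Set G)) : Y ≤ θ t := by
  haveI : Fact (Nat.Prime 2) := ⟨Nat.prime_two⟩
  set C := centralizer ({t} : Set G)
  set f := QuotientGroup.mk' (Cfsg.oddCore ↥C)
  intro y hy
  have hyR : f ⟨y, hY hy⟩ ∈ Cfsg.pCore 2 (↥C ⧸ Cfsg.oddCore ↥C) := by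
    refine constrained hc ht (mem_centralizer_iff.2 fun r hr => ?_)
    obtain ⟨s, hs, rfl⟩ := exists_mem_sylow hT hTC hTmax r hr
    have h := commutator_mem_theta hY hYodd ((mem_corePre s).2 hr) (hTY hs) hy
    have h2 := (mem_theta (s * ⟨y, hY hy⟩ * s⁻¹ * ⟨y, hY hy⟩⁻¹)).1 h
    rw [map_mul, map_mul, map_mul, map_inv, map_inv, mul_inv_eq_one, mul_inv_eq_iff_eq_mul] at h2
    exact h2
  obtain ⟨i, hi⟩ := (IsPGroup.iff_orderOf.1 (CfsgLib.Coprime.pCore_isPGroup 2)) ⟨_, hyR⟩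
  rw [Subgroup.orderOf_mk] at hi
  have ho : orderOf (f ⟨y, hY hy⟩) ∣ Nat.card Y := by
    refine (orderOf_map_dvd f _).trans ?_
    rw [← Subgroup.orderOf_coe]
    exact Subgroup.orderOf_dvd_natCard _ hy
  refine (mem_theta (⟨y, hY hy⟩ : C)).2 ?_
  rcases Nat.eq_zero_or_pos i with rfl | hi0
  · exact orderOf_eq_one_iff.1 (by rw [hi, pow_zero])
  · exact absurd ((dvd_pow_self 2 hi0.ne').trans (hi ▸ ho)) hYodd

/-- The Frattini argument in `C(t)`. -/
theorem exists_frattini {g : G} (hg : g ∈ centralizer ({t} : Set G)) :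
    ∃ a ∈ θ t, ∃ b ∈ centralizer ({t} : Set G),
      b ∈ normalizer ((T ⊓ corePre t : Subgroup G) : Set G) ∧ g = a * b := by
  haveI : Fact (Nat.Prime 2) := ⟨Nat.prime_two⟩
  set C := centralizer ({t} : Set G)
  set f := QuotientGroup.mk' (Cfsg.oddCore ↥C)
  set R := Cfsg.pCore 2 (↥C ⧸ Cfsg.oddCore ↥C)
  haveI hRn : R.Normal := CfsgLib.Coprime.pCore_normal' 2
  set P := R.comap f
  haveI : P.Normal := hRn.comap f
  set Q := T.comap C.subtype ⊓ P
  have hQp : IsPGroup 2 Q := (hT.comap_subtype (K := C)).to_le inf_le_left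
  have hNP : Cfsg.oddCore ↥C ≤ P := fun x hx => by
    rw [mem_comap, show f x = 1 from (QuotientGroup.eq_one_iff x).2 hx]; exact one_mem _
  have hPQ : P ≤ Cfsg.oddCore ↥C ⊔ Q := by
    intro p hp
    obtain ⟨s, hs, hsp⟩ := exists_mem_sylow hT hTC hTmax (f p) hp
    have hn' : p * s⁻¹ ∈ Cfsg.oddCore ↥C := by
      rw [← QuotientGroup.eq_one_iff]
      show f (p * s⁻¹) = 1
      rw [map_mul, map_inv]
      exact mul_inv_eq_one.2 hsp.symm
    have := mul_mem_sup hn' (show s ∈ Q from ⟨hs, show f s ∈ R from hsp ▸ hp⟩)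
    rwa [inv_mul_cancel_right] at this
  obtain ⟨R', hR⟩ := (hQp.comap_subtype (K := P)).exists_le_sylow
  haveI hON : (Cfsg.oddCore ↥C).Normal := by
    haveI := CfsgLib.Coprime.pPrimeCore_characteristic (G := ↥C) 2
    infer_instance
  have hRQ : (R' : Subgroup P) = Q.subgroupOf P := by
    refine le_antisymm ?_ hR
    intro r hr
    obtain ⟨a, ha, q, hq, hq'⟩ := mem_sup_of_normal_left.1 (hPQ r.2)
    have haR : (⟨a, hNP ha⟩ : P) ∈ (R' : Subgroup P) := by
      have : (⟨a, hNP ha⟩ : P) = r * (⟨q, hq.2⟩ : P)⁻¹ := Subtype.ext (by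
        show a = (r : C) * q⁻¹
        rw [← hq', mul_inv_cancel_right])
      rw [this]
      exact mul_mem hr (inv_mem (hR hq))
    obtain ⟨i, hi⟩ := R'.isPGroup' ⟨_, haR⟩
    have ha1 : a = 1 := by
      have h2 : orderOf a ∣ 2 ^ i :=
        orderOf_dvd_of_pow_eq_one (congrArg (fun x : ↥(R' : Subgroup P) => ((x : P) : C)) hi)
      have h3 : (orderOf a).Coprime 2 := (CfsgLib.Coprime.pPrimeCore_coprime Nat.prime_two).coprime_dvd_left
        (Subgroup.orderOf_dvd_natCard _ ha)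
      exact orderOf_eq_one_iff.1 (Nat.eq_one_of_dvd_coprimes (h3.pow_right i) dvd_rfl h2)
    rw [ha1, one_mul] at hq'
    rw [mem_subgroupOf, ← hq']
    exact hq
  have hmap : (R' : Subgroup P).map P.subtype = Q := by
    rw [hRQ, map_subgroupOf_eq_of_le inf_le_right]
  have h := Sylow.normalizer_sup_eq_top R'
  rw [hmap] at h
  have htop : (⊤ : Subgroup C) ≤ Cfsg.oddCore ↥C ⊔ normalizer (Q : Set C) := by
    rw [← h]
    exact sup_le le_sup_right (hPQ.trans (sup_le le_sup_left (le_normalizer.trans le_sup_right)))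
  obtain ⟨a, ha, b, hb, hab⟩ := mem_sup_of_normal_left.1 (htop (mem_top (⟨g, hg⟩ : C)))
  refine ⟨a, ⟨a, ha, rfl⟩, b, b.2, ?_, congrArg Subtype.val hab.symm⟩
  have e : Q.map C.subtype = T ⊓ corePre t := by
    rw [Subgroup.map_inf _ _ _ C.subtype_injective, Subgroup.map_comap_eq_self (by
      rw [range_subtype]; exact hTC)]
    rfl
  rw [← e]
  exact le_normalizer_map C.subtype ⟨b, hb, rfl⟩

end CfsgLib.DichotomyTwo
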