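import Cfsg.Agent.Lib.Dichotomy.Basic
import Cfsg.Agent.S0502
import Cfsg.Agent.Lib.Invol.NormalFourExists
import Cfsg.Agent.Lib.Fusion.Tate

/-!
# Entering and leaving the disconnected case of the dichotomy theorem

The setting exists when the Sylow 2-subgroup is not connected, every involution is conjugate to one
centralizing the normal four-group, and trivial cores of involution centralizers give characteristic
2 type.
-/

set_option autoImplicit false
set_option linter.style.haveILetI false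

namespace CfsgLib.DichotomyTwo

open Subgroup CfsgLib.TwoGenCore

universe u

variable {G : Type u} [Group G] [Finite G]

theorem exists_big (hrank : ¬ Cfsg.PRankLE 2 2 G) (S : Sylow 2 G) : ∃ A, Big S A := by
  unfold Cfsg.PRankLE at hrank
  push Not at hrank
  obtain ⟨A, hA, hA2, hcard⟩ := hrank
  have hAe : Cfsg.IsElementaryAbelian 2 A := ⟨hA, hA2⟩
  haveI : Fact (Nat.Prime 2) := ⟨Nat.prime_two⟩
  obtain ⟨g, hg⟩ := CfsgLib.Invol.exists_conj_le_sylow
    (CfsgLib.Invol.isPGroup_of_isElementaryAbelian hAe) S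
  refine ⟨A.map (MulAut.conj g).toMonoidHom, ⟨⟨⟨?_⟩⟩, ?_⟩, ?_, ?_⟩
  · rintro ⟨_, a, ha, rfl⟩ ⟨_, b, hb, rfl⟩
    refine Subtype.ext ?_
    show MulAut.conj g a * MulAut.conj g b = MulAut.conj g b * MulAut.conj g a
    rw [← map_mul, ← map_mul, CfsgLib.EABasic.comm_of_isElementaryAbelian hAe ha hb]
  · rintro _ ⟨a, ha, rfl⟩
    rw [← map_pow, hA2 a ha, map_one]
  · rw [card_map_of_injective (MulAut.conj g).injective]
    simpa using hcard
  · rintro _ ⟨a, ha, rfl⟩; exact hg a ha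

theorem exists_setting (hO : Cfsg.oddCore G = ⊥) (hc : ¬ Cfsg.IsComponentType G)
    (hrank : ¬ Cfsg.PRankLE 2 2 G) (S : Sylow 2 G) (hS : ¬ Cfsg.IsFourConnected ↥(S : Subgroup G)) :
    ∃ U z, Setting S U z := by
  haveI : Fact (Nat.Prime 2) := ⟨Nat.prime_two⟩
  obtain ⟨A, hA⟩ := exists_big hrank S
  have hno : ∀ E : Subgroup G, Big S E → ¬ (S : Subgroup G) ≤ normalizer (E : Set G) := by
    intro E hE hn
    haveI : (E.subgroupOf (S : Subgroup G)).Normal := (normal_subgroupOf_iff_le_normalizer hE.2.2).2 hn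
    have hcard : Nat.card (E.subgroupOf (S : Subgroup G)) = Nat.card E :=
      Nat.card_congr (subgroupOfEquivOfLe hE.2.2).toEquiv
    refine hS (Cfsg.Agent.S0502.result S.isPGroup' (E.subgroupOf (S : Subgroup G))
      ⟨⟨fun a b => Subtype.ext (Subtype.ext (ea_commute hE.1 a.2 b.2))⟩⟩
      (fun e he => Subtype.ext (hE.1.2 _ he)) ?_)
    obtain ⟨k, hk⟩ := (CfsgLib.Invol.isPGroup_of_isElementaryAbelian hE.1).exists_card_eq
    have h := hE.2.1
    rw [hcard, hk]
    rw [hk] at h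
    have h3 : 3 ≤ k := by
      by_contra hlt
      have := Nat.pow_le_pow_right (show 0 < 2 by norm_num) (by omega : k ≤ 2)
      omega
    exact le_trans (by norm_num) (Nat.pow_le_pow_right two_pos h3)
  obtain ⟨U', hUn, hU4, hU2⟩ := CfsgLib.Invol.exists_normal_four S.isPGroup'
    (A.subgroupOf (S : Subgroup G)) (fun x hx => Subtype.ext (hA.1.2 _ hx))
    (by rw [Nat.card_congr (subgroupOfEquivOfLe hA.2.2).toEquiv]; exact hA.2.1)
  haveI := hUn
  have hU'ne : U' ≠ ⊥ := fun h => by rw [h, card_bot] at hU4; omega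
  obtain ⟨z, hzU, hzo, hzc⟩ := CfsgLib.Invol.exists_fixed_of_normalized (p := 2)
    (P := (⊤ : Subgroup ↥(S : Subgroup G))) (S.isPGroup'.to_subgroup ⊤) (S.isPGroup'.to_subgroup U') hU'ne
    (le_of_le_of_eq le_top (normalizer_eq_top_iff.2 hUn).symm)
  obtain ⟨U, hU⟩ : ∃ U, U = U'.map (S : Subgroup G).subtype := ⟨_, rfl⟩
  have hcardU : Nat.card U = 4 := by
    rw [hU, card_map_of_injective (subtype_injective _), hU4]
  refine ⟨U, z, ⟨hO, hc, ⟨A, hA⟩, hno, ?_, hU ▸ map_subtype_le _, ?_, hU ▸ ⟨z, hzU, rfl⟩, ?_, ?_⟩⟩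
  · have h2 : ∀ x : U, x ^ 2 = 1 := by
      rintro ⟨x, hx⟩
      obtain ⟨y, hy, rfl⟩ := (hU ▸ hx : x ∈ U'.map (S : Subgroup G).subtype)
      refine Subtype.ext ?_
      show (y : G) ^ 2 = 1
      exact congrArg Subtype.val (hU2 y hy)
    haveI : Nontrivial U := Finite.one_lt_card_iff_nontrivial.1 (by omega)
    exact ⟨hcardU, Monoid.exponent_eq_prime_iff Nat.prime_two |>.2 fun x hx =>
      orderOf_eq_prime (h2 x) hx⟩
  · rw [hU]
    intro s hs
    refine mem_normalizer_iff.2 fun x => ⟨?_, fun hx => ?_⟩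
    · rintro ⟨y, hy, rfl⟩
      exact ⟨⟨s, hs⟩ * y * ⟨s, hs⟩⁻¹, hUn.conj_mem y hy _, rfl⟩
    · obtain ⟨y, hy, hyx⟩ := hx
      refine ⟨⟨s, hs⟩⁻¹ * y * ⟨s, hs⟩, ?_, ?_⟩
      · simpa using hUn.conj_mem y hy ⟨s, hs⟩⁻¹
      · show s⁻¹ * (y : G) * s = x
        rw [show (y : G) = s * x * s⁻¹ from hyx]
        group
  · rw [Subgroup.orderOf_coe]; exact hzo
  · exact fun s hs => congrArg Subtype.val
      (mem_centralizer_singleton_iff.1 (hzc (mem_top (⟨s, hs⟩ : ↥(S : Subgroup G)))))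

namespace Setting

variable {S : Sylow 2 G} {U : Subgroup G} {z : G} (c : Setting S U z)

include c

/-- Without a normal subgroup of index two every involution is fused into `C_S(U)`. -/
theorem exists_conj_centralizing (hO2 : ∀ N : Subgroup G, N.Normal → N.index ≠ 2) {x : G}
    (hx : orderOf x = 2) :
    ∃ g : G, g * x * g⁻¹ ∈ (S : Subgroup G) ∧ g * x * g⁻¹ ∈ centralizer (U : Set G) := by
  haveI : Fact (Nat.Prime 2) := ⟨Nat.prime_two⟩
  obtain ⟨g, hg⟩ := CfsgLib.Invol.exists_conj_le_sylow (Q := zpowers x)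
    (IsPGroup.of_card (n := 1) (by rw [Nat.card_zpowers, hx, pow_one])) S
  have hy := hg x (mem_zpowers x)
  by_cases hyU : g * x * g⁻¹ ∈ centralizer (U : Set G)
  · exact ⟨g, hy, hyU⟩
  have hi : ((S : Subgroup G) ⊓ centralizer (U : Set G)).relIndex (S : Subgroup G) = 2 := by
    refine (Subgroup.index_eq_two_iff
      (H := ((S : Subgroup G) ⊓ centralizer (U : Set G)).subgroupOf (S : Subgroup G))).2
      ⟨⟨_, hy⟩, fun b => ?_⟩
    rcases Classical.em ((b : G) ∈ centralizer (U : Set G)) with hb | hb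
    · exact Or.inr ⟨⟨b.2, hb⟩, fun hab => hyU (by
        have := mul_mem (inv_mem hb) (mem_subgroupOf.1 hab).2; simpa using this)⟩
    · exact Or.inl ⟨mem_subgroupOf.2 ⟨mul_mem b.2 hy, c.mul_mem_centralizer b.2 hy hb hyU⟩,
        fun h => hb (mem_subgroupOf.1 h).2⟩
  by_contra hno
  push Not at hno
  obtain ⟨M, hM, hM2, -⟩ := CfsgLib.Fusion.thompson_transfer S inf_le_left hi (u := g * x * g⁻¹)
    (by rw [conj_pow, ← hx, pow_orderOf_eq_one, mul_one, mul_inv_cancel]) (fun h hmem => by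
      have e : h * (g * x * g⁻¹) * h⁻¹ = (h * g) * x * (h * g)⁻¹ := by group
      rw [e] at hmem
      exact hno _ hmem.1 hmem.2)
  exact hO2 M hM hM2

end Setting

/-- Trivial cores of involution centralizers give characteristic 2 type. -/
theorem isCharacteristicTwoType_of_cores (hrank : ¬ Cfsg.PRankLE 2 2 G) (hc : ¬ Cfsg.IsComponentType G)
    (hcore : ∀ t : G, orderOf t = 2 → Cfsg.centralizerPPrimeCore 2 t = ⊥) :
    Cfsg.IsCharacteristicTwoType G := by
  haveI : Fact (Nat.Prime 2) := ⟨Nat.prime_two⟩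
  have hclean : ∀ t : G, orderOf t = 2 →
      CfsgLib.Invol.PClean 2 ↥(centralizer ({t} : Set G)) := by
    intro t ht
    have hbot : Cfsg.oddCore ↥(centralizer ({t} : Set G)) = ⊥ :=
      (Subgroup.map_eq_bot_iff_of_injective _ (subtype_injective _)).1 (hcore t ht)
    refine CfsgLib.Invol.pClean_of_centralizer_le (CfsgLib.CoreUnique.centralizer_pCore_le ?_ hbot)
    rintro ⟨K, hK, hKq⟩
    obtain ⟨e, -⟩ : ∃ e : ↥(centralizer ({t} : Set G)) ≃*
        ↥(centralizer ({t} : Set G)) ⧸ Cfsg.oddCore ↥(centralizer ({t} : Set G)), True :=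
      ⟨(QuotientGroup.quotientBot.symm.trans
        (QuotientGroup.quotientMulEquivOfEq hbot.symm)), trivial⟩
    refine hc ⟨t, ht, K.map e.toMonoidHom, ?_, ?_⟩
    · exact hK.map e.surjective
    · haveI := CfsgLib.Coprime.nontrivial_of_isQuasisimple hKq
      haveI : Nontrivial ↥(K.map e.toMonoidHom) :=
        (K.equivMapOfInjective e.toMonoidHom e.injective).symm.toEquiv.nontrivial
      exact CfsgLib.Invol.BLayer.isQuasisimple_of_surjective hKq
        (f := (K.equivMapOfInjective e.toMonoidHom e.injective).toMonoidHom) (MulEquiv.surjective _)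
  refine ⟨?_, fun T hT hT1 => ?_⟩
  · unfold Cfsg.PRankLE at hrank
    push Not at hrank
    obtain ⟨A, hA, hA2, hcard⟩ := hrank
    obtain ⟨k, hk⟩ := (CfsgLib.Invol.isPGroup_of_isElementaryAbelian (⟨hA, hA2⟩ :
      Cfsg.IsElementaryAbelian 2 A)).exists_card_eq
    have hk0 : k ≠ 0 := fun h => by rw [hk, h] at hcard; norm_num at hcard
    exact even_iff_two_dvd.2 ((hk ▸ dvd_pow_self 2 hk0 : 2 ∣ Nat.card A).trans (card_subgroup_dvd_card A))
  · obtain ⟨k, hk⟩ := IsPGroup.iff_card.1 hT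
    have hk0 : k ≠ 0 := fun h => hT1 (Subgroup.eq_bot_of_card_eq T (by rw [hk, h, pow_zero]))
    obtain ⟨z, hz⟩ := exists_prime_orderOf_dvd_card' 2 (hk ▸ dvd_pow_self 2 hk0 : 2 ∣ Nat.card T)
    rw [← Subgroup.orderOf_coe] at hz
    exact (CfsgLib.CharPLoc.pClean_normalizer_of_central hT z.2 (hclean _ hz)).centralizer_le

end CfsgLib.DichotomyTwo
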