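import Cfsg.Agent.Lib.Dichotomy.Local
import Cfsg.Agent.Lib.Dichotomy.Setup

/-!
# The disconnected case of the dichotomy theorem

The normalizer of `W U` contains the centralizers of the involutions of `S`, so it is everything or
strongly embedded, and the cores of the involution centralizers are trivial.
-/

set_option autoImplicit false
set_option linter.style.haveILetI false

namespace CfsgLib.DichotomyTwo

open Subgroup CfsgLib.TwoGenCore

universe u

variable {G : Type u} [Group G] [Finite G]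

local notation "θ" => Cfsg.centralizerPPrimeCore 2

namespace Setting

variable {S : Sylow 2 G} {U : Subgroup G} {z : G} (c : Setting S U z)

include c

/-- The closure of the cores over `U` is trivial if `normalizer (W U)` controls fusion in `S`. -/
theorem W_eq_bot (hFT : CfsgLib.OddConseq.OddSolvable.{u})
    (hSE : ∀ H : Subgroup G, Cfsg.IsStronglyEmbedded H →
      (Cfsg.oddCore ↥H).map H.subtype ≤ Cfsg.oddCore G)
    (hfus : ∀ {x g : G}, x ∈ (S : Subgroup G) → g * x * g⁻¹ ∈ (S : Subgroup G) →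
      ∃ h ∈ normalizer (W U : Set G), h * x * h⁻¹ = g * x * g⁻¹)
    (hO2 : ∀ N : Subgroup G, N.Normal → N.index ≠ 2) : W U = ⊥ := by
  haveI : Fact (Nat.Prime 2) := ⟨Nat.prime_two⟩
  obtain ⟨M, hM⟩ : ∃ M, M = normalizer (W U : Set G) := ⟨_, rfl⟩
  have hSM : (S : Subgroup G) ≤ M := hM ▸ c.sylow_le_M hFT
  have hCM : ∀ x ∈ (S : Subgroup G), orderOf x = 2 → centralizer ({x} : Set G) ≤ M := by
    intro x hxS hx
    obtain ⟨g, hg1, hg2⟩ := c.exists_conj_centralizing hO2 hx
    obtain ⟨h, hh, e⟩ := hfus hxS hg1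
    refine centralizer_conj_le (hM ▸ hh) ?_
    rw [e, hM]
    exact c.centralizer_good_le hFT _ _
      (c.goodInvol_of_mem hg1 (CfsgLib.Invol.invol_conj hx g) hg2) rfl
  have hWodd := c.W_odd hFT
  by_cases htop : M = ⊤
  · haveI : (W U).Normal := normalizer_eq_top_iff.1 (hM ▸ htop)
    exact le_bot_iff.1 (c.core ▸ CfsgLib.Coprime.le_pPrimeCore_of_not_dvd Nat.prime_two hWodd)
  · have heven : Even (Nat.card M) := by
      rw [even_iff_two_dvd, ← c.invol]
      exact Subgroup.orderOf_dvd_natCard _ (hSM (c.le c.mem))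
    have hSEM : Cfsg.IsStronglyEmbedded M := by
      rw [CfsgLib.Invol.stronglyEmbedded_iff htop heven]
      intro s hsM hs k hk
      have hconj : ∀ x ∈ M, orderOf x = 2 → ∃ m ∈ M, m * x * m⁻¹ ∈ (S : Subgroup G) := by
        intro x hxM hx
        obtain ⟨m, hm⟩ := CfsgLib.Invol.exists_conj_le_sylow (Q := zpowers (⟨x, hxM⟩ : M))
          (IsPGroup.of_card (n := 1) (by rw [Nat.card_zpowers, ← Subgroup.orderOf_coe, hx, pow_one]))
          (S.subtype hSM)
        exact ⟨m, m.2, hm _ (mem_zpowers _)⟩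
      obtain ⟨m, hmM, hms⟩ := hconj s hsM hs
      obtain ⟨n, hnM, hns⟩ := hconj _ hk (CfsgLib.Invol.invol_conj hs k)
      obtain ⟨h, hh⟩ : ∃ h, h = n * k * m⁻¹ := ⟨_, rfl⟩
      have e : h * (m * s * m⁻¹) * h⁻¹ = n * (k * s * k⁻¹) * n⁻¹ := by rw [hh]; group
      obtain ⟨r, hr, hre⟩ := hfus hms (e ▸ hns)
      have hrh : r⁻¹ * h ∈ M := by
        refine hCM _ hms (CfsgLib.Invol.invol_conj hs m) (mem_centralizer_singleton_iff.2 ?_)
        calc r⁻¹ * h * (m * s * m⁻¹)
            = r⁻¹ * (h * (m * s * m⁻¹) * h⁻¹) * h := by group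
          _ = r⁻¹ * (r * (m * s * m⁻¹) * r⁻¹) * h := by rw [hre]
          _ = m * s * m⁻¹ * (r⁻¹ * h) := by group
      have hhM : h ∈ M := by simpa using mul_mem (hM ▸ hr : r ∈ M) hrh
      have := mul_mem (mul_mem (inv_mem hnM) hhM) hmM
      rwa [hh, show n⁻¹ * (n * k * m⁻¹) * m = k by group] at this
    have hWM : W U ≤ M := hM ▸ le_normalizer
    haveI : ((W U).subgroupOf M).Normal := (normal_subgroupOf_iff_le_normalizer hWM).2 (hM ▸ le_rfl)
    have h1 : (W U).subgroupOf M ≤ Cfsg.oddCore ↥M :=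
      CfsgLib.Coprime.le_pPrimeCore_of_not_dvd Nat.prime_two
        (by rwa [Nat.card_congr (subgroupOfEquivOfLe hWM).toEquiv])
    have h2 := (map_mono h1).trans (hSE M hSEM)
    rw [map_subgroupOf_eq_of_le hWM, c.core, le_bot_iff] at h2
    exact h2

/-- In the setting the cores of the involution centralizers are trivial. -/
theorem isCharacteristicTwoType (hFT : CfsgLib.OddConseq.OddSolvable.{u})
    (hSE : ∀ H : Subgroup G, Cfsg.IsStronglyEmbedded H →
      (Cfsg.oddCore ↥H).map H.subtype ≤ Cfsg.oddCore G)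
    (hfus : ∀ {x g : G}, x ∈ (S : Subgroup G) → g * x * g⁻¹ ∈ (S : Subgroup G) →
      ∃ h ∈ normalizer (W U : Set G), h * x * h⁻¹ = g * x * g⁻¹)
    (hO2 : ∀ N : Subgroup G, N.Normal → N.index ≠ 2) (hrank : ¬ Cfsg.PRankLE 2 2 G) :
    Cfsg.IsCharacteristicTwoType G := by
  refine isCharacteristicTwoType_of_cores hrank c.notComp fun t ht => ?_
  obtain ⟨g, hg1, hg2⟩ := c.exists_conj_centralizing hO2 ht
  have h := c.theta_le_W hFT (c.goodInvol_of_mem hg1 (CfsgLib.Invol.invol_conj ht g) hg2)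
  rw [c.W_eq_bot hFT hSE hfus hO2, theta_conj, le_bot_iff] at h
  exact (Subgroup.map_eq_bot_iff_of_injective _ (MulAut.conj g).injective).1 h

end Setting

end CfsgLib.DichotomyTwo
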