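import Cfsg.Agent.Lib.Dichotomy.Basic
import Cfsg.Agent.Lib.Dichotomy.CoreTools

/-!
# Centralizers of good involutions normalize `W U`

For an involution other than the central `z` the Frattini factor maps a central four-group to a good
one.  For `z` itself the fixed points of `W U` on the image of `U` lie in the cores.
-/

set_option autoImplicit false
set_option linter.style.haveILetI false

namespace CfsgLib.DichotomyTwo

open Subgroup CfsgLib.TwoGenCore

universe u

variable {G : Type u} [Group G] [Finite G]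

local notation "θ" => Cfsg.centralizerPPrimeCore 2

theorem centralizer_conj_le {M : Subgroup G} {m t : G} (hm : m ∈ M)
    (h : centralizer ({m * t * m⁻¹} : Set G) ≤ M) : centralizer ({t} : Set G) ≤ M := by
  intro x hx
  have hx' : m * x * m⁻¹ ∈ M := h (mem_centralizer_singleton_iff.2 (by
    have e := mem_centralizer_singleton_iff.1 hx
    show MulAut.conj m x * MulAut.conj m t = MulAut.conj m t * MulAut.conj m x
    rw [← map_mul, e, map_mul]))
  have := mul_mem (mul_mem (inv_mem hm) hx') hm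
  simpa [mul_assoc] using this

namespace Setting

variable {S : Sylow 2 G} {U : Subgroup G} {z : G} (c : Setting S U z)

include c

/-- An element of exponent two centralizing `S ∩ C(U)` and lying in it lies in `U`. -/
theorem mem_U_of_central {x : G} (hxS : x ∈ (S : Subgroup G)) (hxU : x ∈ centralizer (U : Set G))
    (hx2 : x * x = 1)
    (hxc : ∀ s ∈ (S : Subgroup G), s ∈ centralizer (U : Set G) → Commute s x) : x ∈ U := by
  by_contra hne
  let E : Subgroup G :=
    { carrier := {y | y ∈ (S : Subgroup G) ∧ y ∈ centralizer (U : Set G) ∧ y * y = 1 ∧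
        ∀ s ∈ (S : Subgroup G), s ∈ centralizer (U : Set G) → Commute s y}
      one_mem' := ⟨one_mem _, one_mem _, one_mul 1, fun s _ _ => Commute.one_right s⟩
      mul_mem' := fun {a b} ha hb => ⟨mul_mem ha.1 hb.1, mul_mem ha.2.1 hb.2.1, by
        rw [(hb.2.2.2 a ha.1 ha.2.1).symm.mul_mul_mul_comm, ha.2.2.1, hb.2.2.1, one_mul],
        fun s hs hsU => (ha.2.2.2 s hs hsU).mul_right (hb.2.2.2 s hs hsU)⟩
      inv_mem' := fun {a} ha => by rwa [inv_eq_of_mul_eq_one_right ha.2.2.1] }
  have hUE : U ≤ E := fun u hu => ⟨c.le hu,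
    mem_centralizer_iff.2 fun v hv => (ea_commute (four_elem c.four) hv hu).eq,
    by rw [← pow_two]; exact (four_elem c.four).2 u hu,
    fun s _ hsU => (mem_centralizer_iff.1 hsU u hu).symm⟩
  have hxE : x ∈ E := ⟨hxS, hxU, hx2, hxc⟩
  refine c.noNormal E ⟨⟨⟨⟨fun a b => Subtype.ext (b.2.2.2.2 a a.2.1 a.2.2.1).eq⟩⟩,
    fun a ha => by rw [pow_two]; exact ha.2.2.1⟩, ?_, fun a ha => ha.1⟩ ?_
  · by_contra hle
    exact hne ((Subgroup.eq_of_le_of_card_ge hUE (by rw [c.four.card_four]; omega)).ge hxE)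
  · have key : ∀ s ∈ (S : Subgroup G), ∀ y ∈ E, s * y * s⁻¹ ∈ E := by
      intro s hs y hy
      refine ⟨mul_mem (mul_mem hs hy.1) (inv_mem hs), mem_centralizer_iff.2 fun u hu => ?_, ?_, ?_⟩
      · have h1 : s⁻¹ * u * s ∈ U := by
          have := (mem_normalizer_iff.1 (c.normal (inv_mem hs)) u).1 hu
          simpa using this
        have h2 := mem_centralizer_iff.1 hy.2.1 _ h1
        calc u * (s * y * s⁻¹) = s * ((s⁻¹ * u * s) * y) * s⁻¹ := by group
          _ = s * y * s⁻¹ * u := by rw [h2]; group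
      · calc s * y * s⁻¹ * (s * y * s⁻¹) = s * (y * y) * s⁻¹ := by group
          _ = 1 := by rw [hy.2.2.1, mul_one, mul_inv_cancel]
      · intro r hr hrU
        have h1 : s⁻¹ * r * s ∈ centralizer (U : Set G) := mem_centralizer_iff.2 fun u hu => by
          have hu' : s * u * s⁻¹ ∈ U := (mem_normalizer_iff.1 (c.normal hs) u).1 hu
          have h2 := mem_centralizer_iff.1 hrU _ hu'
          calc u * (s⁻¹ * r * s) = s⁻¹ * (s * u * s⁻¹ * r) * s := by group
            _ = s⁻¹ * r * s * u := by rw [h2]; group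
        have h3 := (hy.2.2.2 _ (mul_mem (mul_mem (inv_mem hs) hr) hs) h1).eq
        calc r * (s * y * s⁻¹) = s * ((s⁻¹ * r * s) * y) * s⁻¹ := by group
          _ = s * y * s⁻¹ * r := by rw [h3]; group
    intro s hs
    refine mem_normalizer_iff.2 fun y => ⟨key s hs y, fun h => ?_⟩
    have := key s⁻¹ (inv_mem hs) _ h
    simpa [mul_assoc] using this

/-- For a noncentral element of `U` the other ones act on the core quotient of its centralizer as the
2-core does. -/
theorem z_mem_corePre {u : G} (hu : u ∈ U) (hu1 : u ≠ 1) (huz : u ≠ z) : z ∈ corePre u := by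
  haveI : Fact (Nat.Prime 2) := ⟨Nat.prime_two⟩
  obtain ⟨C, hC⟩ : ∃ C, C = centralizer ({u} : Set G) := ⟨_, rfl⟩
  have huo : orderOf u = 2 := four_orderOf c.four hu hu1
  obtain ⟨S1, hS1⟩ : ∃ S1, S1 = (S : Subgroup G) ⊓ centralizer (U : Set G) := ⟨_, rfl⟩
  have hS1C : S1 ≤ C := fun s hs => hC ▸ mem_centralizer_singleton_iff.2
    (mem_centralizer_iff.1 (hS1 ▸ hs).2 u hu).symm
  have hS1p : IsPGroup 2 S1 := S.isPGroup'.to_le (hS1 ▸ inf_le_left)
  obtain ⟨T', hTT'⟩ := (hS1p.comap_subtype (K := C)).exists_le_sylow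
  obtain ⟨T, hT⟩ : ∃ T, T = (T' : Subgroup C).map C.subtype := ⟨_, rfl⟩
  have hTC : T ≤ C := hT ▸ map_subtype_le _
  have hle : S1 ≤ T := fun x hx => hT ▸ ⟨⟨x, hS1C hx⟩, hTT' hx, rfl⟩
  have hTp : IsPGroup 2 T := hT ▸ T'.isPGroup'.map C.subtype
  have hTmax : ∀ R : Subgroup G, IsPGroup 2 R → R ≤ C → T ≤ R → R = T := by
    intro R hR hRC hTR
    refine le_antisymm (fun r hr => ?_) hTR
    have h := T'.is_maximal' (hR.comap_subtype (K := C))
      (fun y hy => hTR (hT ▸ mem_map_of_mem _ hy))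
    exact hT ▸ ⟨⟨r, hRC hr⟩, h.le (show (⟨r, hRC hr⟩ : C) ∈ R.comap C.subtype from hr), rfl⟩
  have hzS1 : z ∈ S1 := hS1 ▸ ⟨c.le c.mem,
    mem_centralizer_iff.2 fun v hv => (ea_commute (four_elem c.four) hv c.mem).eq⟩
  -- `S1` has index at most two in `T`
  have hidx : S1.relIndex T ≤ 2 := by
    have hST : Nat.card T ≤ Nat.card (S : Subgroup G) := by
      obtain ⟨g, hg⟩ := CfsgLib.Invol.exists_conj_le_sylow hTp S
      refine le_trans (le_of_eq (card_map_of_injective (MulAut.conj g).injective).symm)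
        (card_le_of_le (show T.map (MulAut.conj g).toMonoidHom ≤ _ from ?_))
      rintro _ ⟨x, hx, rfl⟩
      exact hg x hx
    have hj : S1.relIndex (S : Subgroup G) ≤ 2 := by
      by_cases hle' : (S : Subgroup G) ≤ S1
      · rw [relIndex_eq_one.2 hle']; norm_num
      · obtain ⟨a, ha, haS⟩ := SetLike.not_le_iff_exists.1 hle'
        have haU : a ∉ centralizer (U : Set G) := fun h => haS (hS1 ▸ ⟨ha, h⟩)
        refine (Subgroup.index_eq_two_iff.2 ⟨⟨a, ha⟩, fun b => ?_⟩).le
        rcases Classical.em ((b : G) ∈ centralizer (U : Set G)) with hb | hb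
        · refine Or.inr ⟨?_, fun hab => haU ?_⟩
          · show (b : G) ∈ S1
            rw [hS1]; exact ⟨b.2, hb⟩
          · have hab' : (b : G) * a ∈ S1 := hab
            rw [hS1] at hab'
            have := mul_mem (inv_mem hb) hab'.2; simpa using this
        · refine Or.inl ⟨?_, fun hb' => hb ?_⟩
          · show (b : G) * a ∈ S1
            rw [hS1]; exact ⟨mul_mem b.2 ha, c.mul_mem_centralizer b.2 ha hb haU⟩
          · have hb'' : (b : G) ∈ S1 := hb'
            rw [hS1] at hb''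
            exact hb''.2
    have e1 := S1.relIndex_bot_left
    have h1 := Subgroup.relIndex_mul_relIndex ⊥ S1 T bot_le hle
    have h2 := Subgroup.relIndex_mul_relIndex ⊥ S1 (S : Subgroup G) bot_le (hS1 ▸ inf_le_left)
    rw [relIndex_bot_left, relIndex_bot_left] at h1 h2
    have h3 : 0 < Nat.card S1 := Nat.card_pos
    by_contra hlt
    have h4 : Nat.card S1 * 3 ≤ Nat.card T := h1 ▸ Nat.mul_le_mul le_rfl (by omega)
    have h5 : Nat.card (S : Subgroup G) ≤ Nat.card S1 * 2 := h2 ▸ Nat.mul_le_mul le_rfl hj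
    omega
  have hnorm : ∀ s ∈ T, ∀ r ∈ S1, s * r * s⁻¹ ∈ S1 := by
    intro s hs r hr
    haveI : (S1.subgroupOf T).Normal := by
      rcases (show (S1.subgroupOf T).index = 1 ∨ (S1.subgroupOf T).index = 2 by
        have h0 : (S1.subgroupOf T).index ≠ 0 := Subgroup.index_ne_zero_of_finite
        have h2 : (S1.subgroupOf T).index ≤ 2 := hidx
        omega) with h | h
      · rw [index_eq_one.1 h]; infer_instance
      · exact normal_of_index_eq_two h
    exact (inferInstance : (S1.subgroupOf T).Normal).conj_mem ⟨r, hle hr⟩ hr ⟨s, hs⟩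
  subst hC
  refine mem_corePre_of_series c.notComp huo hTp hTC hTmax (hle hzS1) fun s hs => ?_
  obtain ⟨x, hx⟩ : ∃ x, x = s * z * s⁻¹ := ⟨_, rfl⟩
  have hxS1 : x ∈ S1 := hx ▸ hnorm s hs z hzS1
  have hx2 : x * x = 1 := by
    rw [hx, show s * z * s⁻¹ * (s * z * s⁻¹) = s * (z * z) * s⁻¹ by group, c.z_mul, mul_one, mul_inv_cancel]
  have hxU : x ∈ U := c.mem_U_of_central (hS1 ▸ hxS1).1 (hS1 ▸ hxS1).2 hx2 fun r hr hrU => by
    have h1 : s⁻¹ * r * s ∈ S1 := by
      have := hnorm s⁻¹ (inv_mem hs) r (hS1 ▸ ⟨hr, hrU⟩)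
      simpa using this
    have h2 := (c.central _ (hS1 ▸ h1).1).eq
    show r * x = x * r
    rw [hx]
    calc r * (s * z * s⁻¹) = s * ((s⁻¹ * r * s) * z) * s⁻¹ := by group
      _ = s * z * s⁻¹ * r := by rw [h2]; group
  have hsu : s * u * s⁻¹ = u := mul_inv_eq_iff_eq_mul.2 (mem_centralizer_singleton_iff.1 (hTC hs))
  rw [show z * s * z⁻¹ * s⁻¹ = z * (s * z * s⁻¹)⁻¹ * (s * 1 * s⁻¹) by
    simp only [mul_one, mul_inv_cancel]; group, mul_one, mul_inv_cancel, mul_one, ← hx,
    inv_eq_of_mul_eq_one_right hx2]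
  rcases four_cases c.four hu c.mem hu1 c.z_ne huz hxU with e | e | e | e
  · exact absurd (conj_eq_one_iff.1 (hx ▸ e)) c.z_ne
  · refine absurd ?_ huz
    have : s * z * s⁻¹ = s * u * s⁻¹ := by rw [← hx, e, hsu]
    exact (mul_left_cancel (mul_right_cancel this)).symm
  · rw [e, c.z_mul]; exact one_mem _
  · rw [e, (c.central u (c.le hu)).eq, ← mul_assoc, c.z_mul, one_mul]; exact mem_zpowers u

variable (hFT : CfsgLib.OddConseq.OddSolvable.{u})
include hFT

/-- The centralizer of the central involution normalizes `W U`. -/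
theorem centralizer_z_le : centralizer ({z} : Set G) ≤ normalizer (W U : Set G) := by
  haveI : Fact (Nat.Prime 2) := ⟨Nat.prime_two⟩
  have hSC : (S : Subgroup G) ≤ centralizer ({z} : Set G) := fun s hs =>
    mem_centralizer_singleton_iff.2 (c.central s hs).eq
  have hmax : ∀ R : Subgroup G, IsPGroup 2 R → R ≤ centralizer ({z} : Set G) →
      (S : Subgroup G) ≤ R → R = (S : Subgroup G) := fun R hR _ h => S.is_maximal' hR h
  have hWS := c.sylow_le_M hFT
  have hzS : z ∈ (S : Subgroup G) := c.le c.mem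
  have hcz : ∀ u ∈ U, u ∈ (S : Subgroup G) ⊓ corePre z := by
    refine fun u hu => ⟨c.le hu, mem_corePre_of_series c.notComp c.invol S.isPGroup' hSC hmax (c.le hu)
      fun s hs => ?_⟩
    rw [show u * s * u⁻¹ * s⁻¹ = u * (s * u * s⁻¹)⁻¹ by group]
    rcases c.conj_cases hs hu with e | e <;> rw [e]
    · rw [mul_inv_cancel]; exact one_mem _
    · rw [mul_inv_rev, (c.central u (c.le hu)).symm.inv_left.inv_right.eq, mul_inv_cancel_left]
      exact inv_mem (mem_zpowers z)
  have hWz : W U ⊓ centralizer ({z} : Set G) ≤ θ z :=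
    le_theta_of_sylow c.notComp c.invol S.isPGroup' hSC hmax inf_le_right
      (fun h => c.W_odd hFT (h.trans (card_dvd_of_le inf_le_left)))
      (CfsgLib.Coprime.inf_le_normalizer hWS (hSC.trans le_normalizer))
  intro g hg
  obtain ⟨a, ha, b, hbC, hbN, rfl⟩ := exists_frattini S.isPGroup' hSC hmax hg
  refine mul_mem (le_normalizer (c.theta_le_W hFT c.goodInvol_z ha)) ?_
  have hbz : b * z * b⁻¹ = z := mul_inv_eq_iff_eq_mul.2 (mem_centralizer_singleton_iff.1 hbC)
  have hVS : U.map (MulAut.conj b).toMonoidHom ≤ (S : Subgroup G) := by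
    rintro _ ⟨x, hx, rfl⟩
    exact ((mem_normalizer_iff.1 hbN x).1 (hcz x hx)).1
  have hV4 : IsKleinFour ↥(U.map (MulAut.conj b).toMonoidHom) := Cfsg.Agent.S0520.four_conj c.four b
  have hle : W U ≤ W (U.map (MulAut.conj b).toMonoidHom) := by
    refine CfsgLib.SolvSignalizer.le_of_fixed_points (four_elem hV4) (by rw [hV4.card_four]; norm_num)
      (hVS.trans hWS) (c.W_odd hFT) ?_
    rintro _ ⟨u, hu, rfl⟩ hne
    have hu1 : u ≠ 1 := fun e => hne (by rw [e, map_one])
    refine le_trans ?_ (CfsgLib.TwoGenCore.theta_le_W ⟨u, hu, rfl⟩ hne)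
    show W U ⊓ centralizer ({b * u * b⁻¹} : Set G) ≤ θ (b * u * b⁻¹)
    by_cases huz : u = z
    · rw [huz, hbz]; exact hWz
    obtain ⟨x, hx⟩ : ∃ x, x = b * u * b⁻¹ := ⟨_, rfl⟩
    rw [← hx]
    obtain ⟨Y, hY⟩ : ∃ Y : Subgroup G, Y = (W U ⊓ centralizer ({x} : Set G)).comap
        (MulAut.conj b).toMonoidHom := ⟨_, rfl⟩
    have hYmem : ∀ y, y ∈ Y ↔ b * y * b⁻¹ ∈ W U ⊓ centralizer ({x} : Set G) := fun y => by
      rw [hY]; rfl
    have hYC : Y ≤ centralizer ({u} : Set G) := fun y hy => mem_centralizer_singleton_iff.2 (by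
      have h := mem_centralizer_singleton_iff.1 ((hYmem y).1 hy).2
      rw [hx, show b * y * b⁻¹ * (b * u * b⁻¹) = b * (y * u) * b⁻¹ by group,
        show b * u * b⁻¹ * (b * y * b⁻¹) = b * (u * y) * b⁻¹ by group] at h
      exact mul_left_cancel (mul_right_cancel h))
    have hYodd : ¬ 2 ∣ Nat.card Y := by
      intro h
      rw [← card_map_of_injective (f := (MulAut.conj b).toMonoidHom) (K := Y) (MulAut.conj b).injective,
        hY] at h
      exact c.W_odd hFT (h.trans (card_dvd_of_le ((map_comap_le _ _).trans inf_le_left)))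
    have hxS : x ∈ (S : Subgroup G) := hx ▸ hVS ⟨u, hu, rfl⟩
    have hzx : z ∈ normalizer ((W U ⊓ centralizer ({x} : Set G) : Subgroup G) : Set G) := by
      refine CfsgLib.Coprime.inf_le_normalizer (A := (S : Subgroup G) ⊓ centralizer ({x} : Set G))
        (inf_le_left.trans hWS) (inf_le_right.trans le_normalizer)
        ⟨hzS, mem_centralizer_singleton_iff.2 (c.central x hxS).symm.eq⟩
    have hzY : z ∈ normalizer (Y : Set G) := by
      refine mem_normalizer_iff.2 fun y => ?_
      rw [hYmem, hYmem, mem_normalizer_iff.1 hzx (b * y * b⁻¹)]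
      rw [show b * (z * y * z⁻¹) * b⁻¹ = (b * z * b⁻¹) * (b * y * b⁻¹) * (b * z * b⁻¹)⁻¹ by group, hbz]
    have hbal := isBalanced_of_not_componentType c.notComp
    have hth : θ x = (θ u).map (MulAut.conj b).toMonoidHom := by rw [hx]; exact theta_conj b u
    have key : Y ≤ θ u := le_theta_of_fixed hYC hYodd c.invol (c.z_mem_corePre hu hu1 huz) hzY
      fun y hy hcomm => by
        have h1 : b * y * b⁻¹ * z = z * (b * y * b⁻¹) := by
          have : MulAut.conj b y * MulAut.conj b z = MulAut.conj b z * MulAut.conj b y := by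
            rw [← map_mul, ← map_mul, hcomm.eq]
          simpa [hbz] using this
        have h2 : b * y * b⁻¹ ∈ θ z :=
          hWz ⟨((hYmem y).1 hy).1, mem_centralizer_singleton_iff.2 h1⟩
        have h3 : b * y * b⁻¹ ∈ θ x ⊓ centralizer ({z} : Set G) := by
          rw [← hbal z x c.invol (hx ▸ CfsgLib.Invol.invol_conj (four_orderOf c.four hu hu1) b)
            (c.central x hxS).symm.eq]
          exact ⟨h2, ((hYmem y).1 hy).2⟩
        obtain ⟨w, hw, hwy⟩ := (hth ▸ h3.1 : b * y * b⁻¹ ∈ (θ u).map (MulAut.conj b).toMonoidHom)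
        rwa [← (MulAut.conj b).injective (show MulAut.conj b w = MulAut.conj b y from hwy)]
    intro w hw
    rw [hth]
    refine ⟨b⁻¹ * w * b, key ((hYmem _).2 ?_), ?_⟩
    · simpa [mul_assoc] using hw
    · simp [mul_assoc]
  rw [mem_normalizer_iff_map_conj_eq]
  show (W U).map (MulAut.conj b).toMonoidHom = W U
  rw [← W_conj]
  refine (Subgroup.eq_of_le_of_card_ge hle ?_).symm
  rw [W_conj, card_map_of_injective (MulAut.conj b).injective]

/-- The centralizer of a good involution normalizes `W U`. -/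
theorem centralizer_good_le : ∀ n, ∀ t : G, GoodInvol S t →
    Nat.card G - Nat.card ↥((S : Subgroup G) ⊓ centralizer ({t} : Set G)) = n →
    centralizer ({t} : Set G) ≤ normalizer (W U : Set G) := by
  haveI : Fact (Nat.Prime 2) := ⟨Nat.prime_two⟩
  intro n
  induction n using Nat.strongRecOn with
  | ind n ih =>
  intro t htg hn
  by_cases htz : t = z
  · exact htz ▸ c.centralizer_z_le hFT
  obtain ⟨ht, A, hA, htA⟩ := htg
  obtain ⟨C, hC⟩ : ∃ C, C = centralizer ({t} : Set G) := ⟨_, rfl⟩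
  rw [← hC] at hn ⊢
  obtain ⟨T, hT⟩ : ∃ T, T = (S : Subgroup G) ⊓ C := ⟨_, rfl⟩
  rw [← hT] at hn
  have hTS : T ≤ (S : Subgroup G) := hT ▸ inf_le_left
  have hTC : T ≤ C := hT ▸ inf_le_right
  have hTp : IsPGroup 2 T := S.isPGroup'.to_le hTS
  have hAT : A ≤ T := hT ▸ le_inf hA.2.2 (fun a ha => hC ▸ mem_centralizer_singleton_iff.2
    (ea_commute hA.1 ha htA).eq)
  have hNM : normalizer (T : Set G) ≤ normalizer (W U : Set G) := c.normalizer_le_M hFT hA hAT hTS
  have htT : t ∈ T := hAT htA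
  obtain ⟨T', hTT'⟩ := (hTp.comap_subtype (K := C)).exists_le_sylow
  have hle : T ≤ (T' : Subgroup C).map C.subtype := fun x hx => ⟨⟨x, hTC hx⟩, hTT' hx, rfl⟩
  by_cases heq : T = (T' : Subgroup C).map C.subtype
  swap
  · obtain ⟨T1, hT1⟩ : ∃ T1, T1 = normalizer (T : Set G) ⊓ (T' : Subgroup C).map C.subtype := ⟨_, rfl⟩
    have hT1p : IsPGroup 2 T1 := (T'.isPGroup'.map C.subtype).to_le (hT1 ▸ inf_le_right)
    have hlt : T < T1 := by
      refine lt_of_le_not_ge (hT1 ▸ le_inf le_normalizer hle) fun h => ?_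
      exact CfsgLib.Invol.normalizer_grows (T'.isPGroup'.map C.subtype) hle heq (hT1 ▸ h)
    have hT1M : T1 ≤ normalizer (W U : Set G) := (hT1 ▸ inf_le_left).trans hNM
    obtain ⟨m, hm⟩ := CfsgLib.Invol.exists_conj_le_sylow (Q := T1.subgroupOf (normalizer (W U : Set G)))
      hT1p.comap_subtype (S.subtype (c.sylow_le_M hFT))
    have hmT1 : ∀ x ∈ T1, (m : G) * x * (m : G)⁻¹ ∈ (S : Subgroup G) := fun x hx =>
      hm ⟨x, hT1M hx⟩ hx
    have hsub : T1.map (MulAut.conj (m : G)).toMonoidHom ≤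
        (S : Subgroup G) ⊓ centralizer ({(m : G) * t * (m : G)⁻¹} : Set G) := by
      rintro _ ⟨x, hx, rfl⟩
      refine mem_inf.2 ⟨hmT1 x hx, mem_centralizer_singleton_iff.2 ?_⟩
      have hxC : x ∈ centralizer ({t} : Set G) :=
        hC ▸ map_subtype_le _ ((hT1 ▸ hx : x ∈ normalizer (T : Set G) ⊓ _).2)
      show MulAut.conj (m : G) x * MulAut.conj (m : G) t = MulAut.conj (m : G) t * MulAut.conj (m : G) x
      rw [← map_mul, mem_centralizer_singleton_iff.1 hxC, map_mul]
    have h1 : Nat.card T < Nat.card T1 := lt_of_le_of_ne (card_le_of_le hlt.le) fun e =>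
      hlt.ne (Subgroup.eq_of_le_of_card_ge hlt.le e.ge)
    have h2 : Nat.card T1 ≤
        Nat.card ↥((S : Subgroup G) ⊓ centralizer ({(m : G) * t * (m : G)⁻¹} : Set G)) := by
      refine le_trans (le_of_eq ?_) (card_le_of_le hsub)
      rw [card_map_of_injective (MulAut.conj (m : G)).injective]
    have h3 : Nat.card ↥((S : Subgroup G) ⊓ centralizer ({(m : G) * t * (m : G)⁻¹} : Set G)) ≤ Nat.card G :=
      card_le_card_group _
    have hgood : GoodInvol S ((m : G) * t * (m : G)⁻¹) := ⟨CfsgLib.Invol.invol_conj ht _, _,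
      hA.map fun x hx => hmT1 x (hlt.le (hAT hx)), ⟨t, htA, rfl⟩⟩
    exact hC ▸ centralizer_conj_le m.2 (ih _ (by omega) _ hgood rfl)
  · have hmax : ∀ R : Subgroup G, IsPGroup 2 R → R ≤ C → T ≤ R → R = T := by
      intro R hR hRC hTR
      refine le_antisymm (fun r hr => ?_) hTR
      have h := T'.is_maximal' (hR.comap_subtype (K := C))
        (fun y hy => hTR (heq ▸ mem_map_of_mem _ hy))
      exact heq ▸ ⟨⟨r, hRC hr⟩, h.le (show (⟨r, hRC hr⟩ : C) ∈ R.comap C.subtype from hr), rfl⟩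
    subst hC
    have hzT : z ∈ T := hT ▸ ⟨c.le c.mem, mem_centralizer_singleton_iff.2 (c.central t (hTS htT)).symm.eq⟩
    obtain ⟨V, hV⟩ : ∃ V : Subgroup G, V = Subgroup.closure {t, z} := ⟨_, rfl⟩
    have hV4 : IsKleinFour V := hV ▸ CfsgLib.Invol.isKleinFour_closure_pair ht c.invol htz
      (c.central t (hTS htT))
    have hVcen : ∀ v ∈ V, ∀ s ∈ T, v * s = s * v := by
      intro v hv s hs
      have hle' : V ≤ centralizer ({s} : Set G) := hV ▸ (closure_le _).2 (by
        rintro w (rfl | rfl)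
        · exact mem_centralizer_singleton_iff.2 (mem_centralizer_singleton_iff.1 (hTC hs)).symm
        · exact mem_centralizer_singleton_iff.2 (c.central s (hTS hs)).symm.eq)
      exact mem_centralizer_singleton_iff.1 (hle' hv)
    have hVQ : V ≤ T ⊓ corePre t := by
      have hVT : V ≤ T := hV ▸ (closure_le _).2 (by rintro w (rfl | rfl) <;> assumption)
      refine fun v hv => ⟨hVT hv, mem_corePre_of_series c.notComp ht hTp hTC hmax (hVT hv) fun s hs => ?_⟩
      rw [hVcen v hv s hs, mul_inv_cancel_right, mul_inv_cancel]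
      exact one_mem _
    have hVg : GoodFour S V := by
      refine ⟨hV4, _, big_sup hV4 (fun v hv => hTS (hVQ hv).1) hA.1 hA.2.2
        (fun v hv a ha => hVcen v hv a (hAT ha)) (fun h => ?_), le_sup_left⟩
      have := card_le_of_le h
      rw [hV4.card_four] at this
      exact absurd hA.2.1 (by omega)
    intro g hg
    obtain ⟨a, ha, b, -, hbN, rfl⟩ := exists_frattini hTp hTC hmax hg
    refine mul_mem (le_normalizer (c.theta_le_W hFT ⟨ht, A, hA, htA⟩ ha)) (c.mem_M_four hFT hVg ?_)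
    have hV' : V.map (MulAut.conj b).toMonoidHom ≤ T := by
      rintro _ ⟨x, hx, rfl⟩
      exact ((mem_normalizer_iff.1 hbN x).1 (hVQ hx)).1
    by_cases hVV : V.map (MulAut.conj b).toMonoidHom ≤ V
    · rw [Subgroup.eq_of_le_of_card_ge hVV (by rw [card_map_of_injective (MulAut.conj b).injective])]
      exact hVg
    · exact ⟨Cfsg.Agent.S0520.four_conj hV4 b, _, big_sup hV4 (fun v hv => hTS (hVQ hv).1)
        (four_elem (Cfsg.Agent.S0520.four_conj hV4 b)) (hV'.trans hTS)
        (fun v hv w hw => hVcen v hv w (hV' hw)) hVV, le_sup_right⟩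

end Setting

end CfsgLib.DichotomyTwo
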